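import Cfsg.Agent.H53.HC.Flag_m3
import Cfsg.Agent.H477.HC.RowSp
import Cfsg.Agent.H477.HC.Levi
import Cfsg.Agent.H477.HC.Rk3Chars_m3
import Cfsg.Agent.FastGrp
import Cfsg.Agent.Prune
set_option linter.all false
prune_inst 0x7fffe9fbfbe87bffdfff7e3ff6dceffdf3ab2fffe6dff9cbffe06dbf0b9f5b00cdc5fb858fea13fe1edfe21410f87b43fffffefff26ffc7ffffdfff41ffbffcfedf7b50851dd8cb40fbe0ffe03f07f8e6f3fffffffffffffffffffffffffffbeffbffbfeffff
open scoped Cfsg.Agent.FastGrp

-- part: H722/HC/Tv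
section
/-!
# Transvections of `Sp_{2n}(q)`; cuspidal representations of `Sp_2(q)` (helper722, for S4984)

`tv c a : x ↦ x + c B(x,a) a`; `Cu τ` : the sums of `τ` over the groups `{tv c a : c}`, `a ≠ 0`, vanish.
`exists_cu` : for an odd prime `r ∣ q - 1` an irreducible representation `τ` of `Sp_2(q)` with `Cu τ`, trivial on `-1`, of
dimension divisible by `r`.
-/

set_option autoImplicit false
set_option linter.unusedSectionVars false

open scoped ComplexConjugate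
open Cfsg

namespace Cfsg.Agent.H722.HC

open Cfsg.Agent.OddOrderCharacters.Clifford Cfsg.Agent.Characters Module Cfsg.Agent.H53.HC Cfsg.Agent.H477.HC

universe u v w

section tv

variable {K : Type u} [Field K] {n : ℕ}

theorem sp_symm (x y : Fin n ⊕ Fin n → K) : (CForm.spF K n).B x y = -(CForm.spF K n).B y x := by
  rw [(CForm.spF K n).B_symm]
  simp

theorem sp_self (x : Fin n ⊕ Fin n → K) : (CForm.spF K n).B x x = 0 := (CForm.spF K n).alt x rfl

theorem sp_smul_right (c : K) (x y : Fin n ⊕ Fin n → K) :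
    (CForm.spF K n).B x (c • y) = c * (CForm.spF K n).B x y := by
  rw [(CForm.spF K n).B_smul_right]
  rfl

theorem exists_tv (c : K) (a : Fin n ⊕ Fin n → K) : ∃ g : (CForm.spF K n).iso,
    ∀ x, (g : (Fin n ⊕ Fin n → K) ≃ₗ[K] (Fin n ⊕ Fin n → K)) x = x + (c * (CForm.spF K n).B x a) • a := by
  refine (CForm.spF K n).exists_iso (LinearMap.id + (c • (CForm.spF K n).lf a).smulRight a) (fun x y => ?_)
    (fun _ => rfl)
  change (CForm.spF K n).B (x + (c * (CForm.spF K n).B x a) • a) (y + (c * (CForm.spF K n).B y a) • a) = _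
  rw [(CForm.spF K n).B_add_left, (CForm.spF K n).B_add_right, (CForm.spF K n).B_add_right,
    (CForm.spF K n).B_smul_left, (CForm.spF K n).B_smul_left, sp_smul_right, sp_smul_right, sp_self, sp_symm a y]
  ring

/-- the transvections -/
noncomputable def tv (c : K) (a : Fin n ⊕ Fin n → K) : (CForm.spF K n).iso := (exists_tv c a).choose

theorem tv_apply (c : K) (a x : Fin n ⊕ Fin n → K) :
    (tv c a : (Fin n ⊕ Fin n → K) ≃ₗ[K] (Fin n ⊕ Fin n → K)) x = x + (c * (CForm.spF K n).B x a) • a :=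
  (exists_tv c a).choose_spec x

theorem iso_ext {g g' : (CForm.spF K n).iso} (h : ∀ x, (g : (Fin n ⊕ Fin n → K) ≃ₗ[K] (Fin n ⊕ Fin n → K)) x =
    (g' : (Fin n ⊕ Fin n → K) ≃ₗ[K] (Fin n ⊕ Fin n → K)) x) : g = g' := Subtype.ext (LinearEquiv.ext h)

theorem tv_zero_right (c : K) : tv c (0 : Fin n ⊕ Fin n → K) = 1 := iso_ext fun x => by
  rw [tv_apply, smul_zero, add_zero]; rfl

theorem tv_zero (a : Fin n ⊕ Fin n → K) : tv (0 : K) a = 1 := iso_ext fun x => by
  rw [tv_apply, zero_mul, zero_smul, add_zero]; rfl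

theorem tv_add (c c' : K) (a : Fin n ⊕ Fin n → K) : tv c a * tv c' a = tv (c + c') a := iso_ext fun x => by
  rw [CForm.mul_apply', tv_apply, tv_apply, tv_apply, (CForm.spF K n).B_add_left, (CForm.spF K n).B_smul_left,
    sp_self]
  module

theorem tv_inv (c : K) (a : Fin n ⊕ Fin n → K) : (tv c a)⁻¹ = tv (-c) a := by
  rw [inv_eq_iff_mul_eq_one, tv_add, add_neg_cancel, tv_zero]

theorem tv_conj (g : (CForm.spF K n).iso) (c : K) (a : Fin n ⊕ Fin n → K) :
    g * tv c a * g⁻¹ = tv c ((g : (Fin n ⊕ Fin n → K) ≃ₗ[K] (Fin n ⊕ Fin n → K)) a) := iso_ext fun x => by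
  rw [CForm.mul_apply', CForm.mul_apply', tv_apply, tv_apply, map_add, map_smul, CForm.apply_inv', CForm.B_inv]

theorem tv_smul (c b : K) (a : Fin n ⊕ Fin n → K) : tv c (b • a) = tv (b ^ 2 * c) a := iso_ext fun x => by
  rw [tv_apply, tv_apply, sp_smul_right]
  module

end tv

section cu

variable {K : Type u} [Field K] [Fintype K] {n : ℕ} {M : Type v} [AddCommGroup M] [Module ℂ M]

/-- cuspidality -/
def Cu (τ : Representation ℂ (CForm.spF K n).iso M) : Prop :=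
  ∀ a : Fin n ⊕ Fin n → K, a ≠ 0 → ∑ c : K, τ (tv c a) = 0

theorem Cu.fix {τ : Representation ℂ (CForm.spF K n).iso M} (h : Cu τ) {a : Fin n ⊕ Fin n → K} (ha : a ≠ 0) {m : M}
    (hm : ∀ c : K, τ (tv c a) m = m) : m = 0 := by
  have h1 := LinearMap.congr_fun (h a ha) m
  rw [LinearMap.sum_apply, Finset.sum_congr rfl fun c _ => hm c, Finset.sum_const, Finset.card_univ,
    ← Nat.cast_smul_eq_nsmul ℂ, LinearMap.zero_apply] at h1
  exact (smul_eq_zero.1 h1).resolve_left (Nat.cast_ne_zero.2 Fintype.card_ne_zero)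

theorem eq_zero_of_idem [FiniteDimensional ℂ M] {T : M →ₗ[ℂ] M} (h : T * T = T)
    (h0 : LinearMap.trace ℂ M T = 0) : T = 0 := by
  obtain ⟨p, hp⟩ := LinearMap.isProj_iff_isIdempotentElem (f := T) |>.2 h
  have h1 := hp.trace
  rw [h0] at h1
  have h2 : finrank ℂ p = 0 := by exact_mod_cast h1.symm
  have h3 : p = ⊥ := Submodule.finrank_eq_zero.1 h2
  refine LinearMap.ext fun x => ?_
  have h4 := hp.map_mem x
  rw [h3] at h4
  exact (Submodule.mem_bot ℂ).1 h4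

/-- cuspidality from characters -/
theorem cu_of_char [FiniteDimensional ℂ M] {τ : Representation ℂ (CForm.spF K n).iso M}
    (h : ∀ a : Fin n ⊕ Fin n → K, a ≠ 0 → ∑ c : K, τ.character (tv c a) = 0) : Cu τ := by
  intro a ha
  have hq : (Fintype.card K : ℂ) ≠ 0 := Nat.cast_ne_zero.2 Fintype.card_ne_zero
  set E : M →ₗ[ℂ] M := ∑ c : K, τ (tv c a) with hE
  have h1 : ∀ c' : K, τ (tv c' a) * E = E := by
    intro c'
    rw [hE, Finset.mul_sum]
    refine Fintype.sum_equiv (Equiv.addLeft c') _ _ fun c => ?_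
    rw [← map_mul, tv_add]
    rfl
  have h2 : E * E = (Fintype.card K : ℂ) • E := by
    conv_lhs => rw [hE]
    rw [← hE, Finset.sum_mul, Finset.sum_congr rfl fun c _ => h1 c, Finset.sum_const, Finset.card_univ,
      ← Nat.cast_smul_eq_nsmul ℂ]
  have h3 : (Fintype.card K : ℂ)⁻¹ • E = 0 := by
    refine eq_zero_of_idem ?_ ?_
    · rw [smul_mul_smul_comm, h2, smul_smul]
      congr 1
      field_simp
    · rw [map_smul, hE, map_sum]
      have : ∑ c : K, LinearMap.trace ℂ M (τ (tv c a)) = 0 := h a ha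
      rw [this, smul_zero]
  exact (smul_eq_zero.1 h3).resolve_left (inv_ne_zero hq)

/-- the dimension of a cuspidal representation is divisible by the odd primes dividing `q - 1` -/
theorem Cu.dvd_finrank [FiniteDimensional ℂ M] {τ : Representation ℂ (CForm.spF K n).iso M} (h : Cu τ)
    {t : (CForm.spF K n).iso} {a : Fin n ⊕ Fin n → K} (ha : a ≠ 0) {r : ℕ} (hr : r.Prime) (hr2 : r ≠ 2) {α : Kˣ}
    (hα : orderOf α = r)
    (hta : (t : (Fin n ⊕ Fin n → K) ≃ₗ[K] (Fin n ⊕ Fin n → K)) a = (α : K) • a) (htr : t ^ r = 1) :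
    r ∣ finrank ℂ M := by
  classical
  have hq : (Fintype.card K : ℂ) ≠ 0 := Nat.cast_ne_zero.2 Fintype.card_ne_zero
  have hti : ∀ i : ℕ, ((t ^ i : (CForm.spF K n).iso) : (Fin n ⊕ Fin n → K) ≃ₗ[K] (Fin n ⊕ Fin n → K)) a =
      ((α ^ i : Kˣ) : K) • a := by
    intro i
    induction i with
    | zero => rw [pow_zero, pow_zero, Units.val_one, one_smul]; rfl
    | succ i ih => rw [pow_succ, CForm.mul_apply', hta, map_smul, ih, smul_smul, pow_succ', Units.val_mul]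
  -- the character vanishes on the powers of `t`
  have key : ∀ i : ℕ, ¬ r ∣ i → τ.character (t ^ i) = 0 := by
    intro i hi
    have hβ : 1 - ((α ^ i : Kˣ) : K) ^ 2 ≠ 0 := by
      intro h0
      have h1 : α ^ (i * 2) = 1 := by
        rw [pow_mul]
        apply Units.ext
        rw [Units.val_pow_eq_pow_val, Units.val_one]
        exact (sub_eq_zero.1 h0).symm
      have h2 := orderOf_dvd_of_pow_eq_one h1
      rw [hα] at h2
      rcases hr.dvd_mul.1 h2 with h3 | h3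
      · exact hi h3
      · exact hr2 ((Nat.prime_dvd_prime_iff_eq hr Nat.prime_two).1 h3)
    have h1 : ∀ c : K, τ.character (tv ((1 - ((α ^ i : Kˣ) : K) ^ 2) * c) a * t ^ i) = τ.character (t ^ i) := by
      intro c
      have h2 : tv c a * t ^ i * (tv c a)⁻¹ = tv ((1 - ((α ^ i : Kˣ) : K) ^ 2) * c) a * t ^ i := by
        have h3 : tv c a * t ^ i * (tv c a)⁻¹ = tv c a * (t ^ i * tv (-c) a * (t ^ i)⁻¹) * t ^ i := by
          rw [tv_inv]; group
        rw [h3, tv_conj, hti, tv_smul, tv_add]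
        congr 2
        ring
      rw [← h2]
      exact (Core.isCharacter_isClassFunction (Core.isCharacter_of_rep τ)) (t ^ i) (tv c a)
    have h4 : ∑ c : K, τ.character (tv c a * t ^ i) = 0 := by
      have h5 : ∑ c : K, τ.character (tv c a * t ^ i) = LinearMap.trace ℂ M ((∑ c : K, τ (tv c a)) * τ (t ^ i)) := by
        rw [Finset.sum_mul, map_sum]
        refine Finset.sum_congr rfl fun c _ => ?_
        rw [← map_mul]
        rfl
      rw [h5, h a ha, zero_mul, map_zero]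
    have h5 : ∑ c : K, τ.character (tv c a * t ^ i) = (Fintype.card K : ℂ) * τ.character (t ^ i) := by
      rw [← nsmul_eq_mul, ← Finset.card_univ, ← Finset.sum_const]
      refine (Fintype.sum_equiv (Equiv.mulLeft₀ _ hβ) _ _ fun c => ?_).symm
      exact (h1 c).symm
    rw [h5] at h4
    exact (mul_eq_zero.1 h4).resolve_left hq
  have ht1 : t ≠ 1 := by
    rintro rfl
    have h1 : a = (α : K) • a := hta
    have h2 : (1 - (α : K)) • a = 0 := by rw [sub_smul, one_smul, ← h1, sub_self]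
    have h3 : (α : K) = 1 := (sub_eq_zero.1 ((smul_eq_zero.1 h2).resolve_right ha)).symm
    have h4 : α = 1 := Units.ext h3
    rw [h4, orderOf_one] at hα
    exact hr.one_lt.ne hα
  have hot : orderOf t = r := orderOf_eq_prime (hp := ⟨hr⟩) htr ht1
  have := finite_iso (CForm.spF K n)
  let _ : Fintype (Subgroup.zpowers t) := Fintype.ofFinite _
  obtain ⟨k, hk⟩ := Core.classInner_isNat
    (Core.isCharacter_comp (Subgroup.zpowers t).subtype (Core.isCharacter_of_rep τ))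
    (Core.isCharacter_one (G := Subgroup.zpowers t))
  rw [Core.classInner_def, Finset.sum_eq_single (1 : Subgroup.zpowers t)] at hk
  · rw [Nat.card_zpowers, hot, Pi.one_apply, map_one, mul_one, Function.comp_apply, map_one,
      Representation.char_one] at hk
    have hr0 : (r : ℂ) ≠ 0 := Nat.cast_ne_zero.2 hr.ne_zero
    refine ⟨k, ?_⟩
    have h1 : (finrank ℂ M : ℂ) = r * k := by
      rw [← hk, ← mul_assoc, mul_inv_cancel₀ hr0, one_mul]
    exact_mod_cast h1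
  · rintro ⟨z, hz⟩ - hz1
    obtain ⟨i, hi⟩ := (Submonoid.mem_powers_iff z t).1 ((mem_powers_iff_mem_zpowers).2 hz)
    have h1 : ¬ r ∣ i := by
      rintro ⟨s, rfl⟩
      apply hz1
      apply Subtype.ext
      change z = 1
      rw [← hi, pow_mul, htr, one_pow]
    have h2 : τ.character z = 0 := by
      rw [← hi]
      exact key i h1
    change τ.character z * _ = 0
    rw [h2, zero_mul]
  · intro h0
    exact absurd (Finset.mem_univ _) h0

end cu


section exist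

variable (K : Type u) [Field K]

theorem perp_one {a w : Fin 1 ⊕ Fin 1 → K} (ha : a ≠ 0) (h : (CForm.spF K 1).B w a = 0) : ∃ s : K, w = s • a := by
  have h1 : w (.inl 0) * a (.inr 0) - w (.inr 0) * a (.inl 0) = 0 := by
    have : (CForm.spF K 1).B w a = w (.inl 0) * a (.inr 0) - w (.inr 0) * a (.inl 0) := by
      simp only [CForm.spF_B, Fin.sum_univ_one]
    rw [← this]; exact h
  by_cases h2 : a (.inl 0) = 0
  · have h3 : a (.inr 0) ≠ 0 := by
      intro h3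
      apply ha
      ext s
      rcases s with s | s
      · rw [Subsingleton.elim s 0]; exact h2
      · rw [Subsingleton.elim s 0]; exact h3
    rw [h2, mul_zero, sub_zero] at h1
    have h4 : w (.inl 0) = 0 := (mul_eq_zero.1 h1).resolve_right h3
    refine ⟨w (.inr 0) / a (.inr 0), ?_⟩
    ext s
    rcases s with s | s
    · rw [Subsingleton.elim s 0, Pi.smul_apply, h2, h4, smul_zero]
    · rw [Subsingleton.elim s 0, Pi.smul_apply, smul_eq_mul]
      field_simp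
  · refine ⟨w (.inl 0) / a (.inl 0), ?_⟩
    ext s
    rcases s with s | s
    · rw [Subsingleton.elim s 0, Pi.smul_apply, smul_eq_mul]
      field_simp
    · rw [Subsingleton.elim s 0, Pi.smul_apply, smul_eq_mul]
      field_simp
      linear_combination -h1

theorem exists_B_one {n : ℕ} {a : Fin n ⊕ Fin n → K} (ha : a ≠ 0) : ∃ y, (CForm.spF K n).B y a = 1 := by
  have h1 : ∃ u, (CForm.spF K n).B a u ≠ 0 := by
    by_contra h
    push Not at h
    exact ha ((CForm.spF K n).nondeg a h)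
  obtain ⟨u, hu⟩ := h1
  refine ⟨(-(CForm.spF K n).B a u)⁻¹ • u, ?_⟩
  rw [(CForm.spF K n).B_smul_left, sp_symm u a]
  exact inv_mul_cancel₀ (neg_ne_zero.2 hu)

/-- the torus element -/
theorem exists_tor (α : Kˣ) : ∃ t : (CForm.spF K 1).iso,
    (t : (Fin 1 ⊕ Fin 1 → K) ≃ₗ[K] (Fin 1 ⊕ Fin 1 → K)) (Pi.single (.inl 0) 1) = (α : K) • Pi.single (.inl 0) 1 ∧
      ∀ r : ℕ, α ^ r = 1 → t ^ r = 1 := by
  let f : (Fin 1 ⊕ Fin 1 → K) →ₗ[K] (Fin 1 ⊕ Fin 1 → K) :=
    { toFun := fun x => Sum.elim (fun i => (α : K) * x (.inl i)) (fun i => ((α⁻¹ : Kˣ) : K) * x (.inr i))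
      map_add' := fun x y => by
        ext s
        rcases s with s | s
        · exact mul_add _ _ _
        · exact mul_add _ _ _
      map_smul' := fun c x => by
        ext s
        rcases s with s | s
        · exact mul_left_comm _ _ _
        · exact mul_left_comm _ _ _ }
  have hf1 : ∀ x, f x (.inl 0) = (α : K) * x (.inl 0) := fun x => rfl
  have hf2 : ∀ x, f x (.inr 0) = ((α⁻¹ : Kˣ) : K) * x (.inr 0) := fun x => rfl
  have hα : (α : K) * ((α⁻¹ : Kˣ) : K) = 1 := α.mul_inv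
  obtain ⟨t, ht⟩ := (CForm.spF K 1).exists_iso f (fun x y => by
    simp only [CForm.spF_B, Fin.sum_univ_one, hf1, hf2]
    linear_combination (x (.inl 0) * y (.inr 0) - x (.inr 0) * y (.inl 0)) * hα) (fun _ => rfl)
  refine ⟨t, ?_, fun r hr => ?_⟩
  · rw [ht]
    ext s
    rcases s with s | s
    · rw [Subsingleton.elim s 0, hf1, Pi.smul_apply, smul_eq_mul]
    · rw [Subsingleton.elim s 0, hf2, Pi.smul_apply, smul_eq_mul]
      simp
  · have h1 : ∀ i : ℕ, ∀ x, ((t ^ i : (CForm.spF K 1).iso) : (Fin 1 ⊕ Fin 1 → K) ≃ₗ[K] (Fin 1 ⊕ Fin 1 → K)) x (.inl 0) =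
        (α : K) ^ i * x (.inl 0) ∧
        ((t ^ i : (CForm.spF K 1).iso) : (Fin 1 ⊕ Fin 1 → K) ≃ₗ[K] (Fin 1 ⊕ Fin 1 → K)) x (.inr 0) =
        ((α⁻¹ : Kˣ) : K) ^ i * x (.inr 0) := by
      intro i
      induction i with
      | zero =>
        intro x
        rw [pow_zero, pow_zero, pow_zero, one_mul, one_mul]
        exact ⟨rfl, rfl⟩
      | succ i ih =>
        intro x
        rw [pow_succ, CForm.mul_apply', ht, (ih _).1, (ih _).2, hf1, hf2]
        constructor <;> ring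
    refine iso_ext fun x => ?_
    ext s
    have h2 := h1 r x
    have h3 : (α : K) ^ r = 1 := by rw [← Units.val_pow_eq_pow_val, hr, Units.val_one]
    have h4 : ((α⁻¹ : Kˣ) : K) ^ r = 1 := by rw [← Units.val_pow_eq_pow_val, inv_pow, hr, inv_one, Units.val_one]
    rw [h3, h4, one_mul, one_mul] at h2
    rcases s with s | s
    · rw [Subsingleton.elim s 0]; exact h2.1
    · rw [Subsingleton.elim s 0]; exact h2.2

/-- cuspidal representations of `Sp_2(q)` from cuspidal characters of `GL_2(q)` -/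
theorem cu_of_cusp [Fintype K] {c : GL (Fin 2) K → ℂ} (hirr : IsIrrCharacter _ c) (hcusp : IsCusp c) :
    ∃ (M : Type) (_ : AddCommGroup M) (_ : Module ℂ M) (_ : FiniteDimensional ℂ M)
      (τ : Representation ℂ (CForm.spF K 1).iso M), τ.IsIrreducible ∧ Cu τ ∧
      (c (Matrix.GeneralLinearGroup.scalar (Fin 2) (-1)) = c 1 → ∀ z : (CForm.spF K 1).iso,
        (∀ x, (z : (Fin 1 ⊕ Fin 1 → K) ≃ₗ[K] (Fin 1 ⊕ Fin 1 → K)) x = -x) → τ z = 1) := by
  classical
  have hcl := Core.isIrr_isClassFunction hirr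
  have hirr' := hirr
  obtain ⟨k, ρ₀, hρ₀, hρc⟩ := hirr'
  have hX : finrank K (Fin 1 ⊕ Fin 1 → K) = 2 := by simp
  let b := finBasisOfFinrankEq K (Fin 1 ⊕ Fin 1 → K) hX
  let φ : (CForm.spF K 1).iso →* GL (Fin 2) K := (glE b).toMonoidHom.comp (CForm.spF K 1).iso.subtype
  let C : Representation ℂ (CForm.spF K 1).iso (Fin k → ℂ) := ρ₀.comp φ
  have hCc : ∀ g : (CForm.spF K 1).iso, C.character g = c (glE b (g : (Fin 1 ⊕ Fin 1 → K) ≃ₗ[K] _)) := by
    intro g
    rw [← hρc]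
    rfl
  have hCu : Cu C := by
    refine cu_of_char fun a ha => ?_
    set D : Submodule K (Fin 1 ⊕ Fin 1 → K) := Submodule.span K {a} with hD
    have hD1 : finrank K D = 1 := finrank_span_singleton ha
    have : Finite ((Fin 1 ⊕ Fin 1 → K) ≃ₗ[K] (Fin 1 ⊕ Fin 1 → K)) :=
      Finite.of_injective (fun e : (Fin 1 ⊕ Fin 1 → K) ≃ₗ[K] (Fin 1 ⊕ Fin 1 → K) => (e : _ → _)) DFunLike.coe_injective
    let _ : Fintype (radU D) := Fintype.ofFinite _
    have h1 := hcusp.sum_eq hcl b D (by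
      rw [hD, Ne, Submodule.span_singleton_eq_bot]; exact ha) (by
      intro h2
      rw [h2, finrank_top, hX] at hD1
      omega)
    rw [← h1]
    obtain ⟨y, hy⟩ := exists_B_one K ha
    have hmem : ∀ s : K, ((tv s a : (CForm.spF K 1).iso) : (Fin 1 ⊕ Fin 1 → K) ≃ₗ[K] (Fin 1 ⊕ Fin 1 → K)) ∈ radU D := by
      intro s
      refine ⟨fun w => ?_, fun d hd => ?_⟩
      · rw [tv_apply, add_sub_cancel_left]
        exact D.smul_mem _ (Submodule.mem_span_singleton_self a)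
      · obtain ⟨e, rfl⟩ := Submodule.mem_span_singleton.1 hd
        rw [tv_apply, (CForm.spF K 1).B_smul_left, sp_self, mul_zero, mul_zero, zero_smul, add_zero]
    refine Fintype.sum_bijective (fun s : K => (⟨_, hmem s⟩ : radU D)) ⟨fun s s' hs => ?_, fun u => ?_⟩ _ _
      fun s => ?_
    · have h2' := congrArg (fun u : radU D => (u : (Fin 1 ⊕ Fin 1 → K) ≃ₗ[K] (Fin 1 ⊕ Fin 1 → K))) hs
      have h2 : (tv s a : (CForm.spF K 1).iso) = tv s' a := Subtype.ext h2'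
      have h3 := congrArg (fun g : (CForm.spF K 1).iso => (g : (Fin 1 ⊕ Fin 1 → K) ≃ₗ[K] (Fin 1 ⊕ Fin 1 → K)) y) h2
      simp only [tv_apply, hy, mul_one] at h3
      have h4 : (s - s') • a = 0 := by
        rw [sub_smul, sub_eq_zero]
        exact add_left_cancel h3
      exact sub_eq_zero.1 ((smul_eq_zero.1 h4).resolve_right ha)
    · obtain ⟨u, hu1, hu2⟩ := u
      obtain ⟨s, hs⟩ := Submodule.mem_span_singleton.1 (hu1 y)
      refine ⟨s, Subtype.ext (LinearEquiv.ext fun w => ?_)⟩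
      rw [tv_apply]
      obtain ⟨e, he⟩ := perp_one K ha (w := w - (CForm.spF K 1).B w a • y) (by
        rw [(CForm.spF K 1).B_sub_left, (CForm.spF K 1).B_smul_left, hy, mul_one, sub_self])
      have h5 : u (w - (CForm.spF K 1).B w a • y) = w - (CForm.spF K 1).B w a • y := by
        rw [he]
        exact hu2 _ (D.smul_mem _ (Submodule.mem_span_singleton_self a))
      rw [map_sub, map_smul] at h5
      have h6 : u y = y + s • a := by rw [hs]; abel
      rw [h6] at h5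
      have h7 : u w = w - (CForm.spF K 1).B w a • y + (CForm.spF K 1).B w a • (y + s • a) := by
        rw [← h5]; abel
      change w + (s * (CForm.spF K 1).B w a) • a = u w
      rw [h7]
      module
    · rw [hCc]
      exact (cl_eq hcl b _).symm
  have hk : Nonempty (Fin k) := by
    by_contra hk
    have h1 := Core.isIrr_apply_one_ne_zero hirr
    apply h1
    rw [← hρc, Representation.char_one]
    have : IsEmpty (Fin k) := not_nonempty_iff.1 hk
    simp [finrank_fintype_fun_eq_card]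
  obtain ⟨U, hU⟩ := Core.exists_irreducible_sub C
  have hUC : ∀ (g : (CForm.spF K 1).iso) (m : U.toSubmodule), ((U.toRepresentation g m : U.toSubmodule) : Fin k → ℂ) =
      C g m := fun _ _ => rfl
  have hUcu : Cu U.toRepresentation := by
    intro a ha
    refine LinearMap.ext fun m => Subtype.ext ?_
    have h1 := LinearMap.congr_fun (hCu a ha) (m : Fin k → ℂ)
    rw [LinearMap.sum_apply] at h1 ⊢
    rw [AddSubmonoidClass.coe_finsetSum]
    exact h1
  refine ⟨U.toSubmodule, inferInstance, inferInstance, inferInstance, U.toRepresentation, hU, hUcu, fun hc1 z hz => ?_⟩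
  · have h1 : glE b (z : (Fin 1 ⊕ Fin 1 → K) ≃ₗ[K] _) = Matrix.GeneralLinearGroup.scalar (Fin 2) (-1) := by
      ext i j
      rw [coe_glE, LinearMap.toMatrix_apply]
      have e2 : ((z : (Fin 1 ⊕ Fin 1 → K) ≃ₗ[K] (Fin 1 ⊕ Fin 1 → K)) : _ →ₗ[K] _) (b j) = (-1 : K) • b j := by
        rw [neg_one_smul]; exact hz _
      rw [e2, map_smul, Finsupp.smul_apply, Basis.repr_self, smul_eq_mul, Matrix.GeneralLinearGroup.coe_scalar,
        Matrix.scalar_apply, Matrix.diagonal_apply, Finsupp.single_apply, Units.val_neg, Units.val_one]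
      by_cases hij : i = j
      · simp [hij]
      · rw [if_neg hij, if_neg (Ne.symm hij), mul_zero]
    have h2 : ρ₀ (glE b (z : (Fin 1 ⊕ Fin 1 → K) ≃ₗ[K] _)) = LinearMap.id := by
      rw [← Cfsg.Agent.Characters.Values.character_eq_finrank_iff, hρc, h1, hc1, ← hρc]
      simp
    refine LinearMap.ext fun m => Subtype.ext ?_
    rw [hUC]
    change ρ₀ (glE b (z : (Fin 1 ⊕ Fin 1 → K) ≃ₗ[K] _)) m = m
    rw [h2]
    rfl

/-- **cuspidal representations of `Sp_2(q)`** -/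
theorem exists_cu [Fintype K] {r : ℕ} (hr : r.Prime) (hr2 : r ≠ 2) (h : r ∣ Nat.card K - 1) :
    ∃ (M : Type) (_ : AddCommGroup M) (_ : Module ℂ M) (_ : FiniteDimensional ℂ M)
      (τ : Representation ℂ (CForm.spF K 1).iso M), τ.IsIrreducible ∧ Cu τ ∧
      (∀ z : (CForm.spF K 1).iso,
        (∀ x, (z : (Fin 1 ⊕ Fin 1 → K) ≃ₗ[K] (Fin 1 ⊕ Fin 1 → K)) x = -x) → τ z = 1) ∧ r ∣ finrank ℂ M := by
  classical
  have hr3 : 3 ≤ r := by
    have := hr.two_le
    omega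
  obtain ⟨c, hc⟩ := exists_cus_sq K rfl 2 (by norm_num) (fun h2 => by
      rw [h2] at h
      have := Nat.le_of_dvd (by norm_num) h
      omega) (fun h2 => by
      rw [h2] at h
      have := Nat.le_of_dvd (by norm_num) h
      omega) (fun _ => le_rfl)
  obtain ⟨M, i1, i2, i3, τ, hi, hcu, h1⟩ := cu_of_cusp K hc.irr hc.cusp
  refine ⟨M, i1, i2, i3, τ, hi, hcu, h1 (hc.scal (-1) neg_one_sq), ?_⟩
  obtain ⟨α, hα⟩ := exists_prime_orderOf_dvd_card' (G := Kˣ) (hp := ⟨hr⟩) r (by rw [Nat.card_units]; exact h)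
  obtain ⟨t, ht1, ht2⟩ := exists_tor K α
  refine hcu.dvd_finrank (a := Pi.single (.inl 0) 1) ?_ hr hr2 hα ht1 (ht2 r (by rw [← hα]; exact pow_orderOf_eq_one α))
  intro h0
  have := congrFun h0 (.inl 0)
  simp at this

/-- some cuspidal representation, for all `q` -/
theorem exists_cu_one [Fintype K] :
    ∃ (M : Type) (_ : AddCommGroup M) (_ : Module ℂ M) (_ : FiniteDimensional ℂ M)
      (τ : Representation ℂ (CForm.spF K 1).iso M), τ.IsIrreducible ∧ Cu τ := by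
  classical
  obtain ⟨L, _, _, _, hL⟩ := exists_L K 2 (by norm_num)
  obtain ⟨θ, hθ⟩ := Cfsg.Agent.H139.Cusp.exists_theta L
  have hq : 1 < Nat.card K := Finite.one_lt_card
  have hR : Cfsg.Agent.H139.Cusp.Regular K 2 (Cfsg.Agent.H139.Cusp.powTheta θ 1 one_ne_zero) :=
    (Cfsg.Agent.H139.Cusp.regular_powTheta_iff hθ one_ne_zero hL).2 fun i hi hi2 h => by
      have h1 : i = 1 := by omega
      rw [h1, one_mul, pow_one] at h
      have h2 := Nat.le_of_dvd (by omega) h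
      have h3 : Nat.card K ^ 2 = Nat.card K * Nat.card K := pow_two _
      have h4 : 2 * Nat.card K ≤ Nat.card K * Nat.card K := Nat.mul_le_mul_right _ hq
      omega
  obtain ⟨M, i1, i2, i3, τ, hi, hcu, -⟩ := cu_of_cusp K (Cfsg.Agent.H139.Cusp.psi_isIrr _ hL hR)
    (Cfsg.Agent.H139.Cusp.psi_isCusp L _)
  exact ⟨M, i1, i2, i3, τ, hi, hcu⟩

end exist

end Cfsg.Agent.H722.HC
end

-- part: H722/HC/SpFour
section
/-!
# Harish-Chandra induction from the stabiliser of a point of `Sp_{2m}(q)` (helper722, for S4984)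

`hd` : the Hecke data for `P` the stabiliser of a point and a cuspidal representation `τ` of the smaller symplectic group
(which exists for `m = 2`); `sum_rr` : `A = (q - 1) - (q^(2n) - 1)`.
-/

set_option autoImplicit false
set_option linter.unusedSectionVars false

open scoped ComplexConjugate
open Cfsg

namespace Cfsg.Agent.H722.HC

open Cfsg.Agent.OddOrderCharacters.Clifford Cfsg.Agent.Characters Module Cfsg.Agent.H53.HC Cfsg.Agent.H477.HC
open Cfsg.Agent.H749.Two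

universe u v w

section

variable {K : Type u} [Field K] {m n : ℕ} {e f : Fin 1 → (Fin m ⊕ Fin m → K)}
  {j : (Fin n ⊕ Fin n → K) →ₗ[K] (Fin m ⊕ Fin m → K)}

/-- the parabolic -/
abbrev Pp (K : Type u) [Field K] {m : ℕ} (e : Fin 1 → (Fin m ⊕ Fin m → K)) : Subgroup (CForm.spF K m).iso :=
  stabW (CForm.spF K m).iso.subtype (Submodule.span K (Set.range e))

theorem cmp (h : CForm.Frm (CForm.spF K m) (CForm.spF K n) e f j) :
    Submodule.span K (Set.range e) ∈ (CForm.spF K m).Om 1 ∧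
      Cmp (CForm.spF K m) (CForm.spF K n) j (Submodule.span K (Set.range e)) :=
  cmp_of_frame (F := CForm.spF K m) (F' := CForm.spF K n) (j := j) rfl h.hee h.hff h.hef h.hQe h.hjB h.hjQ h.hje h.hjf h.hdim

theorem mem_se {v : Fin m ⊕ Fin m → K} : v ∈ Submodule.span K (Set.range e) ↔ ∃ c : K, v = c • e 0 := by
  rw [Submodule.mem_span_range_iff_exists_fun]
  constructor
  · rintro ⟨c, rfl⟩
    exact ⟨c 0, by rw [Fin.sum_univ_one]⟩
  · rintro ⟨c, rfl⟩
    exact ⟨fun _ => c, by rw [Fin.sum_univ_one]⟩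

/-- the action of the parabolic on the small space -/
def IsRho (j : (Fin n ⊕ Fin n → K) →ₗ[K] (Fin m ⊕ Fin m → K)) (ρ : Pp K e →* (CForm.spF K n).iso) : Prop :=
  ∀ (g : Pp K e) (x z : Fin n ⊕ Fin n → K),
    (CForm.spF K n).B ((ρ g : (Fin n ⊕ Fin n → K) ≃ₗ[K] (Fin n ⊕ Fin n → K)) x) z =
      (CForm.spF K m).B (((g : (CForm.spF K m).iso) : (Fin m ⊕ Fin m → K) ≃ₗ[K] (Fin m ⊕ Fin m → K)) (j x)) (j z)

theorem exists_isRho (h : CForm.Frm (CForm.spF K m) (CForm.spF K n) e f j) :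
    ∃ ρ : Pp K e →* (CForm.spF K n).iso, IsRho j ρ ∧ Function.Surjective ρ := by
  obtain ⟨ρ, h1, -, h3⟩ := (cmp h).2.exists_rho
  refine ⟨ρ, fun g x z => ?_, fun b => ?_⟩
  · obtain ⟨c, hc⟩ := mem_se.1 (h1 g x)
    have h2 : (CForm.spF K m).B ((((g : (CForm.spF K m).iso) : (Fin m ⊕ Fin m → K) ≃ₗ[K] (Fin m ⊕ Fin m → K)) (j x)) -
        j ((ρ g : (Fin n ⊕ Fin n → K) ≃ₗ[K] (Fin n ⊕ Fin n → K)) x)) (j z) = 0 := by
      rw [hc, (CForm.spF K m).B_smul_left, (CForm.spF K m).B_eq_zero (h.hje z 0), mul_zero]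
    rw [(CForm.spF K m).B_sub_left, h.hjB, sub_eq_zero] at h2
    exact h2.symm
  · obtain ⟨g, hg, -⟩ := h3 1 b
    exact ⟨g, hg⟩

theorem iso_ext_B {g g' : (CForm.spF K n).iso}
    (hB : ∀ x z, (CForm.spF K n).B ((g : (Fin n ⊕ Fin n → K) ≃ₗ[K] (Fin n ⊕ Fin n → K)) x) z =
      (CForm.spF K n).B ((g' : (Fin n ⊕ Fin n → K) ≃ₗ[K] (Fin n ⊕ Fin n → K)) x) z) : g = g' := iso_ext fun x => by
  rw [← sub_eq_zero]
  refine (CForm.spF K n).nondeg _ fun z => ?_
  rw [(CForm.spF K n).B_sub_left, hB, sub_self]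

variable {ρ : Pp K e →* (CForm.spF K n).iso} {w : (CForm.spF K m).iso}

theorem opp_of_B {x : (CForm.spF K m).iso}
    (hx : (CForm.spF K m).B (e 0) ((x : (Fin m ⊕ Fin m → K) ≃ₗ[K] (Fin m ⊕ Fin m → K)) (e 0)) ≠ 0) :
    Submodule.span K (Set.range e) ⊓ (CForm.spF K m).perp
      ((Submodule.span K (Set.range e)).map ((CForm.spF K m).iso.subtype x :
        (Fin m ⊕ Fin m → K) →ₗ[K] (Fin m ⊕ Fin m → K))) = ⊥ := by
  rw [Submodule.eq_bot_iff]
  rintro v ⟨hv, hv'⟩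
  obtain ⟨c, rfl⟩ := mem_se.1 hv
  have h1 : (CForm.spF K m).B (c • e 0) ((x : (Fin m ⊕ Fin m → K) ≃ₗ[K] (Fin m ⊕ Fin m → K)) (e 0)) = 0 :=
    hv' _ ⟨e 0, Submodule.subset_span ⟨0, rfl⟩, rfl⟩
  rw [(CForm.spF K m).B_smul_left] at h1
  rw [(mul_eq_zero.1 h1).resolve_right hx, zero_smul]

theorem e_ne (h : CForm.Frm (CForm.spF K m) (CForm.spF K n) e f j) : e 0 ≠ 0 := by
  intro h0
  have h1 := h.hef 0 0
  rw [h0, (CForm.spF K m).B_zero_left, if_pos rfl] at h1
  exact zero_ne_one h1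

theorem hfe0 (h : CForm.Frm (CForm.spF K m) (CForm.spF K n) e f j) : (CForm.spF K m).B (f 0) (e 0) = -1 := by
  rw [sp_symm, h.hef, if_pos rfl]

theorem hef0 (h : CForm.Frm (CForm.spF K m) (CForm.spF K n) e f j) : (CForm.spF K m).B (e 0) (f 0) = 1 := by
  rw [h.hef, if_pos rfl]

theorem hej (h : CForm.Frm (CForm.spF K m) (CForm.spF K n) e f j) (x) : (CForm.spF K m).B (e 0) (j x) = 0 :=
  (CForm.spF K m).B_eq_zero (h.hje x 0)

theorem hfj (h : CForm.Frm (CForm.spF K m) (CForm.spF K n) e f j) (x) : (CForm.spF K m).B (f 0) (j x) = 0 :=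
  (CForm.spF K m).B_eq_zero (h.hjf x 0)

theorem j_inj (h : CForm.Frm (CForm.spF K m) (CForm.spF K n) e f j) : Function.Injective j := by
  rw [injective_iff_map_eq_zero]
  intro x hx
  refine (CForm.spF K n).nondeg x fun y => ?_
  rw [← h.hjB, hx, (CForm.spF K m).B_zero_left]

/-- elements of the parabolic -/
theorem par_e (h : CForm.Frm (CForm.spF K m) (CForm.spF K n) e f j) {p : (CForm.spF K m).iso} (hp : p ∈ Pp K e) :
    ∃ a : K, a ≠ 0 ∧ (p : (Fin m ⊕ Fin m → K) ≃ₗ[K] (Fin m ⊕ Fin m → K)) (e 0) = a • e 0 := by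
  obtain ⟨a, ha⟩ := mem_se.1 ((CForm.mem_par e p).1 hp 0)
  refine ⟨a, ?_, ha⟩
  rintro rfl
  rw [zero_smul] at ha
  exact e_ne h ((LinearEquiv.map_eq_zero_iff _).1 ha)

theorem mem_Pp {p : (CForm.spF K m).iso} {a : K}
    (hp : (p : (Fin m ⊕ Fin m → K) ≃ₗ[K] (Fin m ⊕ Fin m → K)) (e 0) = a • e 0) : p ∈ Pp K e :=
  (CForm.mem_par e p).2 fun i => by
    rw [Subsingleton.elim i 0, hp]
    exact mem_se.2 ⟨a, rfl⟩

theorem u_j (h : CForm.Frm (CForm.spF K m) (CForm.spF K n) e f j) {u : (CForm.spF K m).iso}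
    (hu : u ∈ CForm.Us (CForm.spF K m) e) (x : Fin n ⊕ Fin n → K) :
    ∃ c : K, (u : (Fin m ⊕ Fin m → K) ≃ₗ[K] (Fin m ⊕ Fin m → K)) (j x) = j x + c • e 0 := by
  obtain ⟨c, hc⟩ := mem_se.1 (hu.2 (j x) (h.hje x))
  exact ⟨c, by rw [← hc]; abel⟩

/-- the unipotent radical acts trivially -/
theorem rho_U (h : CForm.Frm (CForm.spF K m) (CForm.spF K n) e f j) (hρ : IsRho j ρ) {u : Pp K e}
    (hu : (u : (CForm.spF K m).iso) ∈ CForm.Us (CForm.spF K m) e) : ρ u = 1 := by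
  refine iso_ext_B fun x z => ?_
  rw [hρ]
  obtain ⟨c, hc⟩ := u_j h hu x
  rw [hc, (CForm.spF K m).B_add_left, (CForm.spF K m).B_smul_left, hej h, mul_zero, add_zero, h.hjB]
  rfl

section w

variable (hw1 : ∀ i, (w : (Fin m ⊕ Fin m → K) ≃ₗ[K] (Fin m ⊕ Fin m → K)) (e i) = f i)
  (hw2 : ∀ i, (w : (Fin m ⊕ Fin m → K) ≃ₗ[K] (Fin m ⊕ Fin m → K)) (f i) = (CForm.spF K m).ε • e i)
  (hw3 : ∀ v, (∀ i, (CForm.spF K m).B v (e i) = 0) → (∀ i, (CForm.spF K m).B v (f i) = 0) →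
    (w : (Fin m ⊕ Fin m → K) ≃ₗ[K] (Fin m ⊕ Fin m → K)) v = v)

include hw3 in
theorem w_j (h : CForm.Frm (CForm.spF K m) (CForm.spF K n) e f j) (x : Fin n ⊕ Fin n → K) :
    (w : (Fin m ⊕ Fin m → K) ≃ₗ[K] (Fin m ⊕ Fin m → K)) (j x) = j x := hw3 _ (h.hje x) (h.hjf x)

include hw1 in
theorem B_pw (h : CForm.Frm (CForm.spF K m) (CForm.spF K n) e f j) {p : (CForm.spF K m).iso} (hp : p ∈ Pp K e) :
    (CForm.spF K m).B (e 0) (((p * w : (CForm.spF K m).iso) : (Fin m ⊕ Fin m → K) ≃ₗ[K] (Fin m ⊕ Fin m → K)) (e 0)) ≠ 0 := by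
  obtain ⟨a, ha, ha'⟩ := par_e h (Subgroup.inv_mem _ hp)
  rw [CForm.mul_apply', hw1, ← CForm.B_inv, ha', (CForm.spF K m).B_smul_left, hef0 h, mul_one]
  exact ha

include hw3 in
/-- the action of `p'` for `p w = u w p'` -/
theorem rho_big (h : CForm.Frm (CForm.spF K m) (CForm.spF K n) e f j) (hρ : IsRho j ρ) {p p' : Pp K e}
    {u : (CForm.spF K m).iso} (hu : u ∈ CForm.Us (CForm.spF K m) e)
    (e3 : (p : (CForm.spF K m).iso) * w = u * w * p') : ρ p' = ρ p := by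
  refine iso_ext_B fun x z => ?_
  rw [hρ, hρ]
  have h1 : (p' : (CForm.spF K m).iso) = w⁻¹ * (u⁻¹ * (p * w)) := by rw [e3]; group
  obtain ⟨c, hc⟩ := u_j h hu z
  rw [h1, CForm.mul_apply', CForm.B_inv, w_j hw3 h, CForm.mul_apply', CForm.B_inv, CForm.mul_apply', w_j hw3 h, hc,
    (CForm.spF K m).B_add_right, sp_smul_right, h.perp_par p.2 (h.hje x), mul_zero, add_zero]

include hw1 hw2 hw3 in
/-- **the Hecke data** -/
theorem hd [Fintype K] {M : Type v} [AddCommGroup M] [Module ℂ M] {τ : Representation ℂ (CForm.spF K n).iso M}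
    (h : CForm.Frm (CForm.spF K m) (CForm.spF K n) e f j) (hρ : IsRho j ρ) (hτ : Cu τ) :
    HD (Pp K e) (CForm.Us (CForm.spF K m) e) w (MonoidHom.comp τ ρ : Representation ℂ (Pp K e) M) where
  le := CForm.Us_le
  nor := fun p hp u hu => h.Us_nor hp hu
  triv := fun u hu => by
    rw [MonoidHom.comp_apply, rho_U h hρ hu, map_one]
  big := fun p => by
    obtain ⟨u, hu, p', hp', e3⟩ := h.mem_big hw1 (opp_of_B (B_pw hw1 h p.2))
    refine ⟨u, hu, ⟨p', hp'⟩, e3, ?_⟩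
    rw [MonoidHom.comp_apply, MonoidHom.comp_apply, rho_big hw3 h hρ (p := p) (p' := ⟨p', hp'⟩) hu e3]
  ww := by
    have hww : ((w * w : (CForm.spF K m).iso) : (Fin m ⊕ Fin m → K) ≃ₗ[K] (Fin m ⊕ Fin m → K)) (e 0) =
        (CForm.spF K m).ε • e 0 := by rw [CForm.mul_apply', hw1, hw2]
    refine ⟨⟨w * w, mem_Pp hww⟩, rfl, ?_⟩
    have h1 : ρ ⟨w * w, mem_Pp hww⟩ = 1 := by
      refine iso_ext_B fun x z => ?_
      rw [hρ]
      change (CForm.spF K m).B (((w * w : (CForm.spF K m).iso) : (Fin m ⊕ Fin m → K) ≃ₗ[K] (Fin m ⊕ Fin m → K)) (j x))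
        (j z) = (CForm.spF K n).B x z
      rw [CForm.mul_apply', w_j hw3 h, w_j hw3 h, h.hjB]
    rw [MonoidHom.comp_apply, h1, map_one]
  van := fun x hx hx' mm hmm => by
    have h0 : (CForm.spF K m).B (e 0) ((x : (Fin m ⊕ Fin m → K) ≃ₗ[K] (Fin m ⊕ Fin m → K)) (e 0)) = 0 := by
      by_contra h0
      exact hx' (h.mem_big hw1 (opp_of_B h0))
    set e' := ((x⁻¹ : (CForm.spF K m).iso) : (Fin m ⊕ Fin m → K) ≃ₗ[K] (Fin m ⊕ Fin m → K)) (e 0) with he'
    have h1 : (CForm.spF K m).B e' (e 0) = 0 := by rw [he', CForm.B_inv, h0]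
    obtain ⟨y, hy, x₀, hx₀⟩ := (cmp h).2.j2 e' (fun z hz => by
      obtain ⟨c, rfl⟩ := mem_se.1 hz
      rw [sp_smul_right, h1, mul_zero])
    obtain ⟨c₀, rfl⟩ := mem_se.1 hy
    have hx₀' : x₀ ≠ 0 := by
      rintro rfl
      rw [map_zero, add_zero] at hx₀
      apply hx
      have := mem_Pp (p := x⁻¹) (e := e) (a := c₀) hx₀
      simpa using Subgroup.inv_mem _ this
    refine hτ.fix hx₀' fun c => ?_
    have hv1 : (tv c e' : (Fin m ⊕ Fin m → K) ≃ₗ[K] (Fin m ⊕ Fin m → K)) (e 0) = (1 : K) • e 0 := by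
      rw [tv_apply, (CForm.spF K m).B_eq_zero h1, mul_zero, zero_smul, add_zero, one_smul]
    have hvU : x * tv c e' * x⁻¹ ∈ CForm.Us (CForm.spF K m) e := by
      rw [tv_conj, he', CForm.apply_inv']
      refine ⟨fun i => ?_, fun v hv => ?_⟩
      · rw [Subsingleton.elim i 0, tv_apply, sp_self, mul_zero, zero_smul, add_zero]
      · rw [tv_apply, hv 0, mul_zero, zero_smul, add_zero, sub_self]
        exact Submodule.zero_mem _
    have h2 := hmm ⟨tv c e', mem_Pp hv1⟩ hvU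
    have h3 : ρ ⟨tv c e', mem_Pp hv1⟩ = tv c x₀ := by
      refine iso_ext_B fun x z => ?_
      rw [hρ]
      change (CForm.spF K m).B ((tv c e' : (Fin m ⊕ Fin m → K) ≃ₗ[K] (Fin m ⊕ Fin m → K)) (j x)) (j z) = _
      rw [tv_apply, tv_apply, (CForm.spF K m).B_add_left, (CForm.spF K m).B_smul_left, (CForm.spF K n).B_add_left,
        (CForm.spF K n).B_smul_left, h.hjB, hx₀, (CForm.spF K m).B_add_right, sp_smul_right, h.hje, mul_zero, zero_add,
        (CForm.spF K m).B_add_left, (CForm.spF K m).B_smul_left, hej h, mul_zero, zero_add, h.hjB, h.hjB]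
    rw [MonoidHom.comp_apply, h3] at h2
    exact h2
  opp := fun u hu hwuw => by
    refine h.Us_eq_one hu fun i => ?_
    obtain ⟨a, -, ha⟩ := par_e h hwuw
    rw [CForm.mul_apply', CForm.mul_apply', hw1] at ha
    have h1 : (u : (Fin m ⊕ Fin m → K) ≃ₗ[K] (Fin m ⊕ Fin m → K)) (f 0) =
        (a * ((CForm.spF K m).ε)⁻¹) • f 0 := by
      apply (w : (Fin m ⊕ Fin m → K) ≃ₗ[K] (Fin m ⊕ Fin m → K)).injective
      rw [ha, map_smul, hw2, smul_smul, mul_assoc, inv_mul_cancel₀ (CForm.spF K m).ε_ne, mul_one]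
    rw [Subsingleton.elim i 0, h1]
    exact Submodule.smul_mem _ _ (Submodule.subset_span ⟨0, rfl⟩)
  wP := fun hw => by
    obtain ⟨a, -, ha⟩ := par_e h hw
    rw [hw1] at ha
    have h2 := hef0 h
    rw [ha, sp_smul_right, sp_self, mul_zero] at h2
    exact zero_ne_one h2

theorem exists_U (h : CForm.Frm (CForm.spF K m) (CForm.spF K n) e f j) (x₀ : Fin n ⊕ Fin n → K) (t : K) :
    ∃ u ∈ CForm.Us (CForm.spF K m) e, (u : (Fin m ⊕ Fin m → K) ≃ₗ[K] (Fin m ⊕ Fin m → K)) (f 0) =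
      f 0 + j x₀ + t • e 0 := by
  obtain ⟨u, hu1, hu2, hu3⟩ := h.exists_unip (y := fun _ => f 0 + j x₀ + t • e 0) (fun i l => by
      rw [Subsingleton.elim i 0, Subsingleton.elim l 0, if_pos rfl, (CForm.spF K m).B_add_right,
        (CForm.spF K m).B_add_right, sp_smul_right, sp_self, hej h, hef0 h, mul_zero, add_zero, add_zero])
    (fun _ _ => sp_self _) (fun _ => rfl)
  refine ⟨u, ⟨hu1, fun v hv => ?_⟩, hu2 0⟩
  rw [hu3 v hv]
  have : ∀ b : Fin m ⊕ Fin m → K, v - b - v = -b := fun b => by abel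
  rw [this, Fin.sum_univ_one]
  exact Submodule.neg_mem _ (Submodule.smul_mem _ _ (Submodule.subset_span ⟨0, rfl⟩))

theorem U_coord (h : CForm.Frm (CForm.spF K m) (CForm.spF K n) e f j) {u : (CForm.spF K m).iso}
    (hu : u ∈ CForm.Us (CForm.spF K m) e) : ∃ (x₀ : Fin n ⊕ Fin n → K) (t : K),
      (u : (Fin m ⊕ Fin m → K) ≃ₗ[K] (Fin m ⊕ Fin m → K)) (f 0) = f 0 + j x₀ + t • e 0 := by
  have h1 : (CForm.spF K m).B ((u : (Fin m ⊕ Fin m → K) ≃ₗ[K] (Fin m ⊕ Fin m → K)) (f 0) - f 0) (e 0) = 0 := by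
    have h2 : (CForm.spF K m).B ((u : (Fin m ⊕ Fin m → K) ≃ₗ[K] (Fin m ⊕ Fin m → K)) (f 0))
        ((u : (Fin m ⊕ Fin m → K) ≃ₗ[K] (Fin m ⊕ Fin m → K)) (e 0)) = (CForm.spF K m).B (f 0) (e 0) :=
      (CForm.spF K m).iso_B u _ _
    rw [CForm.Us_e hu] at h2
    rw [(CForm.spF K m).B_sub_left, h2, sub_self]
  obtain ⟨y, hy, x₀, hx₀⟩ := (cmp h).2.j2 _ (fun z hz => by
      obtain ⟨c, rfl⟩ := mem_se.1 hz
      rw [sp_smul_right, h1, mul_zero])
  obtain ⟨t, rfl⟩ := mem_se.1 hy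
  refine ⟨x₀, t, ?_⟩
  rw [add_assoc, add_comm (j x₀), ← hx₀]
  abel

theorem U_ext (h : CForm.Frm (CForm.spF K m) (CForm.spF K n) e f j) {u u' : (CForm.spF K m).iso}
    (hu : u ∈ CForm.Us (CForm.spF K m) e) (hu' : u' ∈ CForm.Us (CForm.spF K m) e)
    (hf : (u : (Fin m ⊕ Fin m → K) ≃ₗ[K] (Fin m ⊕ Fin m → K)) (f 0) =
      (u' : (Fin m ⊕ Fin m → K) ≃ₗ[K] (Fin m ⊕ Fin m → K)) (f 0)) : u = u' := by
  have h1 : u'⁻¹ * u = 1 := by
    refine h.Us_eq_one ((CForm.Us (CForm.spF K m) e).mul_mem ((CForm.Us (CForm.spF K m) e).inv_mem hu') hu) fun i => ?_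
    rw [Subsingleton.elim i 0, CForm.mul_apply', hf, CForm.inv_apply']
    exact Submodule.subset_span ⟨0, rfl⟩
  exact (inv_mul_eq_one.1 h1).symm

theorem coord_inj (h : CForm.Frm (CForm.spF K m) (CForm.spF K n) e f j) {x₀ x₁ : Fin n ⊕ Fin n → K} {t s : K}
    (heq : f 0 + j x₀ + t • e 0 = f 0 + j x₁ + s • e 0) : x₀ = x₁ ∧ t = s := by
  have h1 := congrArg (fun v => (CForm.spF K m).B v (f 0)) heq
  simp only [(CForm.spF K m).B_add_left, (CForm.spF K m).B_smul_left, h.hjf, hef0 h, mul_one] at h1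
  have h2 : t = s := add_left_cancel h1
  refine ⟨j_inj h ?_, h2⟩
  rw [h2] at heq
  exact add_left_cancel (add_right_cancel heq)

include hw1 hw2 hw3 in
/-- the element `p` of the big cell -/
theorem rho_p (h : CForm.Frm (CForm.spF K m) (CForm.spF K n) e f j) (hρ : IsRho j ρ) {u u₁ : (CForm.spF K m).iso}
    (hu : u ∈ CForm.Us (CForm.spF K m) e) (hu₁ : u₁ ∈ CForm.Us (CForm.spF K m) e) {p : Pp K e}
    {x₀ : Fin n ⊕ Fin n → K} {t : K}
    (hx₀ : (u : (Fin m ⊕ Fin m → K) ≃ₗ[K] (Fin m ⊕ Fin m → K)) (f 0) = f 0 + j x₀ + t • e 0)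
    (e3 : w * u * w = u₁ * w * p) : t ≠ 0 ∧ ρ p = tv t⁻¹ x₀ := by
  have hε : (CForm.spF K m).ε = -1 := rfl
  obtain ⟨a, ha, ha'⟩ := par_e h p.2
  have hX : ((w * u * w : (CForm.spF K m).iso) : (Fin m ⊕ Fin m → K) ≃ₗ[K] (Fin m ⊕ Fin m → K)) (e 0) =
      (-1 : K) • e 0 + j x₀ + t • f 0 := by
    rw [CForm.mul_apply', CForm.mul_apply', hw1, hx₀, map_add, map_add, map_smul, hw1, hw2, w_j hw3 h, hε]
  have hX' : ((u₁ * w * p : (CForm.spF K m).iso) : (Fin m ⊕ Fin m → K) ≃ₗ[K] (Fin m ⊕ Fin m → K)) (e 0) =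
      a • (u₁ : (Fin m ⊕ Fin m → K) ≃ₗ[K] (Fin m ⊕ Fin m → K)) (f 0) := by
    rw [CForm.mul_apply', CForm.mul_apply', ha', map_smul, map_smul, hw1]
  rw [← e3, hX] at hX'
  have hue : (u₁ : (Fin m ⊕ Fin m → K) ≃ₗ[K] (Fin m ⊕ Fin m → K)) (e 0) = e 0 := CForm.Us_e hu₁ 0
  have hat : t = a := by
    have h1 := congrArg (fun v => (CForm.spF K m).B (e 0) v) hX'
    simp only [(CForm.spF K m).B_add_right, sp_smul_right, sp_self, hej h, hef0 h, mul_one, mul_zero, zero_add] at h1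
    have h2 : (CForm.spF K m).B (e 0) ((u₁ : (Fin m ⊕ Fin m → K) ≃ₗ[K] (Fin m ⊕ Fin m → K)) (f 0)) = 1 := by
      have h3 : (CForm.spF K m).B ((u₁ : (Fin m ⊕ Fin m → K) ≃ₗ[K] (Fin m ⊕ Fin m → K)) (e 0))
          ((u₁ : (Fin m ⊕ Fin m → K) ≃ₗ[K] (Fin m ⊕ Fin m → K)) (f 0)) = (CForm.spF K m).B (e 0) (f 0) :=
        (CForm.spF K m).iso_B u₁ _ _
      rwa [hue, hef0 h] at h3
    rw [h2, mul_one] at h1
    exact h1
  have ht : t ≠ 0 := by rw [hat]; exact ha
  refine ⟨ht, iso_ext_B fun x z => ?_⟩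
  rw [hρ]
  have hp : (p : (CForm.spF K m).iso) = w⁻¹ * (u₁⁻¹ * (w * u * w)) := by rw [e3]; group
  obtain ⟨β, hβ⟩ := u_j h hu x
  obtain ⟨γ, hγ⟩ := u_j h hu₁ z
  have hβ' : β = -(CForm.spF K n).B x x₀ := by
    have h3 : (CForm.spF K m).B ((u : (Fin m ⊕ Fin m → K) ≃ₗ[K] (Fin m ⊕ Fin m → K)) (j x))
          ((u : (Fin m ⊕ Fin m → K) ≃ₗ[K] (Fin m ⊕ Fin m → K)) (f 0)) = (CForm.spF K m).B (j x) (f 0) :=
        (CForm.spF K m).iso_B u _ _
    rw [hβ, hx₀] at h3
    simp only [(CForm.spF K m).B_add_right, (CForm.spF K m).B_add_left, (CForm.spF K m).B_smul_left, sp_smul_right,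
      sp_self, hej h, hef0 h, h.hjB, h.hje, h.hjf, mul_one, mul_zero, zero_add, add_zero] at h3
    linear_combination h3
  have hγ' : (CForm.spF K n).B z x₀ + γ * t = 0 := by
    have h3 : (CForm.spF K m).B ((u₁ : (Fin m ⊕ Fin m → K) ≃ₗ[K] (Fin m ⊕ Fin m → K)) (j z))
          (a • (u₁ : (Fin m ⊕ Fin m → K) ≃ₗ[K] (Fin m ⊕ Fin m → K)) (f 0)) = 0 := by
      rw [sp_smul_right]
      have h4 : (CForm.spF K m).B ((u₁ : (Fin m ⊕ Fin m → K) ≃ₗ[K] (Fin m ⊕ Fin m → K)) (j z))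
          ((u₁ : (Fin m ⊕ Fin m → K) ≃ₗ[K] (Fin m ⊕ Fin m → K)) (f 0)) = (CForm.spF K m).B (j z) (f 0) :=
        (CForm.spF K m).iso_B u₁ _ _
      rw [h4, h.hjf, mul_zero]
    rw [hγ, ← hX'] at h3
    simp only [(CForm.spF K m).B_add_right, (CForm.spF K m).B_add_left, (CForm.spF K m).B_smul_left, sp_smul_right,
      sp_self, hej h, hef0 h, h.hjB, h.hje, h.hjf, mul_one, mul_zero, zero_add, add_zero] at h3
    linear_combination h3
  have hXj : ((w * u * w : (CForm.spF K m).iso) : (Fin m ⊕ Fin m → K) ≃ₗ[K] (Fin m ⊕ Fin m → K)) (j x) =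
      j x + β • f 0 := by
    rw [CForm.mul_apply', CForm.mul_apply', w_j hw3 h, hβ, map_add, map_smul, w_j hw3 h, hw1]
  rw [hp, CForm.mul_apply', CForm.B_inv, w_j hw3 h, CForm.mul_apply', CForm.B_inv, hXj, hγ, tv_apply]
  simp only [(CForm.spF K m).B_add_right, (CForm.spF K m).B_add_left, (CForm.spF K m).B_smul_left, sp_smul_right,
      (CForm.spF K n).B_add_left, (CForm.spF K n).B_smul_left, h.hjB, h.hje, hfj h, hfe0 h, mul_zero, add_zero,
      zero_add]
  rw [hβ', sp_symm x₀ z]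
  have h5 : γ = -(CForm.spF K n).B z x₀ * t⁻¹ := by
    field_simp
    linear_combination hγ'
  rw [h5]
  ring

include hw1 hw2 hw3 in
/-- the sum of the operators of the big cell -/
theorem sum_rr [Fintype K] {M : Type v} [AddCommGroup M] [Module ℂ M] {τ : Representation ℂ (CForm.spF K n).iso M}
    (h : CForm.Frm (CForm.spF K m) (CForm.spF K n) e f j) (hρ : IsRho j ρ) (hτ : Cu τ)
    [Fintype (CForm.spF K m).iso] [Fintype (Pp K e)] [Fintype (CForm.Us (CForm.spF K m) e)] :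
    Nat.card (CForm.Us (CForm.spF K m) e) = Fintype.card K ^ (2 * n + 1) ∧
    ∑ u : CForm.Us (CForm.spF K m) e, rr (Pp K e) (MonoidHom.comp τ ρ : Representation ℂ (Pp K e) M)
      (CForm.Us (CForm.spF K m) e) w u = ((Fintype.card K : ℂ) - (Fintype.card K : ℂ) ^ (2 * n)) • (1 : M →ₗ[ℂ] M) := by
  classical
  have hdd := hd hw1 hw2 hw3 h hρ hτ
  choose E hE1 hE2 using exists_U h
  let Φ : (Fin n ⊕ Fin n → K) × K → CForm.Us (CForm.spF K m) e := fun d => ⟨E d.1 d.2, hE1 d.1 d.2⟩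
  have hΦ : Function.Bijective Φ := by
    constructor
    · rintro ⟨x, t⟩ ⟨x', t'⟩ heq
      have h1 : E x t = E x' t' := congrArg Subtype.val heq
      have h2 := hE2 x t
      rw [h1, hE2] at h2
      obtain ⟨h3, h4⟩ := coord_inj h h2
      rw [h3, h4]
    · rintro ⟨u, hu⟩
      obtain ⟨x, t, hxt⟩ := U_coord h hu
      refine ⟨(x, t), Subtype.ext (U_ext h (hE1 x t) hu ?_)⟩
      rw [hE2, hxt]
  have hcard : Nat.card (CForm.Us (CForm.spF K m) e) = Fintype.card K ^ (2 * n + 1) := by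
    rw [← Nat.card_congr (Equiv.ofBijective Φ hΦ), Nat.card_prod, Nat.card_fun]
    simp only [Nat.card_eq_fintype_card, Fintype.card_sum, Fintype.card_fin]
    rw [pow_succ, two_mul]
  refine ⟨hcard, ?_⟩
  have hrr : ∀ (x : Fin n ⊕ Fin n → K) (t : K), rr (Pp K e) (MonoidHom.comp τ ρ : Representation ℂ (Pp K e) M)
      (CForm.Us (CForm.spF K m) e) w (E x t) = if t = 0 then 0 else τ (tv (-t⁻¹) x) := by
    intro x t
    by_cases hB : ∃ p : Pp K e, ∃ u₁ ∈ CForm.Us (CForm.spF K m) e, w * E x t * w = u₁ * w * p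
    · obtain ⟨p, u₁, hu₁, e3⟩ := hB
      obtain ⟨ht, hp⟩ := rho_p hw1 hw2 hw3 h hρ (hE1 x t) hu₁ (hE2 x t) e3
      rw [hdd.rr_eq hu₁ p e3, if_neg ht, MonoidHom.comp_apply, map_inv, hp, tv_inv]
    · have h3 : rr (Pp K e) (MonoidHom.comp τ ρ : Representation ℂ (Pp K e) M)
          (CForm.Us (CForm.spF K m) e) w (E x t) = 0 := by
        unfold rr
        rw [dif_neg hB]
      rw [h3, if_pos]
      by_contra ht
      apply hB
      have h4 : (CForm.spF K m).B (e 0) (((w * E x t * w : (CForm.spF K m).iso) :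
          (Fin m ⊕ Fin m → K) ≃ₗ[K] (Fin m ⊕ Fin m → K)) (e 0)) ≠ 0 := by
        rw [CForm.mul_apply', CForm.mul_apply', hw1, hE2, map_add, map_add, map_smul, hw1, hw2, w_j hw3 h,
          (CForm.spF K m).B_add_right, (CForm.spF K m).B_add_right, sp_smul_right, sp_smul_right, sp_self, hej h,
          hef0 h, mul_zero, mul_one, zero_add, zero_add]
        exact ht
      obtain ⟨u₁, hu₁, p, hp, e3⟩ := h.mem_big hw1 (opp_of_B h4)
      exact ⟨⟨p, hp⟩, u₁, hu₁, e3⟩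
  have hsum : ∀ x : Fin n ⊕ Fin n → K, ∑ t : K, (if t = 0 then 0 else τ (tv (-t⁻¹) x)) =
      (if x = 0 then (Fintype.card K : ℂ) • (1 : M →ₗ[ℂ] M) else 0) - 1 := by
    intro x
    let N : K ≃ K :=
      { toFun := fun t => -t⁻¹
        invFun := fun t => -t⁻¹
        left_inv := fun t => by
          change -(-t⁻¹)⁻¹ = t
          rw [inv_neg, inv_inv, neg_neg]
        right_inv := fun t => by
          change -(-t⁻¹)⁻¹ = t
          rw [inv_neg, inv_inv, neg_neg] }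
    have h1 : ∑ t : K, (if t = 0 then 0 else τ (tv (-t⁻¹) x)) = ∑ s : K, (τ (tv s x) - if s = 0 then 1 else 0) := by
      refine Fintype.sum_equiv N _ _ fun t => ?_
      change _ = τ (tv (-t⁻¹) x) - if -t⁻¹ = 0 then 1 else 0
      by_cases ht : t = 0
      · rw [if_pos ht, if_pos (by rw [ht, inv_zero, neg_zero]), ht, inv_zero, neg_zero, tv_zero, map_one, sub_self]
      · rw [if_neg ht, if_neg (neg_ne_zero.2 (inv_ne_zero ht)), sub_zero]
    rw [h1, Finset.sum_sub_distrib, Finset.sum_ite_eq' Finset.univ (0 : K) (fun _ => (1 : M →ₗ[ℂ] M)),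
      if_pos (Finset.mem_univ _)]
    congr 1
    by_cases hx : x = 0
    · rw [if_pos hx, hx, Finset.sum_congr rfl fun s _ => by rw [tv_zero_right, map_one], Finset.sum_const,
        Finset.card_univ, ← Nat.cast_smul_eq_nsmul ℂ]
    · rw [if_neg hx]
      exact hτ x hx
  rw [← (Equiv.ofBijective Φ hΦ).sum_comp, Fintype.sum_prod_type]
  have h6 : ∀ x : Fin n ⊕ Fin n → K, ∑ t : K, rr (Pp K e) (MonoidHom.comp τ ρ : Representation ℂ (Pp K e) M)
      (CForm.Us (CForm.spF K m) e) w ((Equiv.ofBijective Φ hΦ (x, t) : CForm.Us (CForm.spF K m) e) :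
        (CForm.spF K m).iso) = (if x = 0 then (Fintype.card K : ℂ) • (1 : M →ₗ[ℂ] M) else 0) - 1 := by
    intro x
    rw [← hsum x]
    exact Finset.sum_congr rfl fun t _ => hrr x t
  rw [Finset.sum_congr rfl fun x _ => h6 x, Finset.sum_sub_distrib, Finset.sum_ite_eq' Finset.univ
    (0 : Fin n ⊕ Fin n → K) (fun _ => (Fintype.card K : ℂ) • (1 : M →ₗ[ℂ] M)), if_pos (Finset.mem_univ _),
    Finset.sum_const, Finset.card_univ, ← Nat.cast_smul_eq_nsmul ℂ, sub_smul]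
  congr 2
  simp [two_mul]

end w

end

/-- **the character of `Sp_4(q)` of degree `q (q² + 1) dim τ`** -/
theorem exists_char4 (K : Type u) [Field K] [Fintype K] {M : Type v} [AddCommGroup M] [Module ℂ M]
    [FiniteDimensional ℂ M] {τ : Representation ℂ (CForm.spF K 1).iso M} (hτi : τ.IsIrreducible) (hτ : Cu τ) :
    ∃ (χ : (CForm.spF K 2).iso → ℂ) (d D : ℕ), IsIrrCharacter _ χ ∧ χ 1 = (d : ℂ) ∧
      (Nat.card K + 1) * d = Nat.card K * (D * finrank ℂ M) ∧
      ((∀ z : (CForm.spF K 1).iso, (∀ x, (z : (Fin 1 ⊕ Fin 1 → K) ≃ₗ[K] (Fin 1 ⊕ Fin 1 → K)) x = -x) → τ z = 1) →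
        ∀ z : (CForm.spF K 2).iso,
          (∀ v, (z : (Fin 2 ⊕ Fin 2 → K) ≃ₗ[K] (Fin 2 ⊕ Fin 2 → K)) v = (-1 : K) • v) → χ z = χ 1) := by
  classical
  have hq1 : 1 < Nat.card K := Finite.one_lt_card
  obtain ⟨e, f, j, h⟩ := CForm.frm_sp (K := K) (k := 1) (n := 1) (m := 2) rfl
  obtain ⟨w, hw1, hw2, hw3⟩ := h.exists_w
  obtain ⟨ρ, hρ, hρs⟩ := exists_isRho h
  have := finite_iso (CForm.spF K 2)
  let _ : Fintype (CForm.spF K 2).iso := Fintype.ofFinite _
  let _ : Fintype (Pp K e) := Fintype.ofFinite _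
  let _ : Fintype (CForm.Us (CForm.spF K 2) e) := Fintype.ofFinite _
  have hdd := hd hw1 hw2 hw3 h hρ hτ
  obtain ⟨hU, hA⟩ := sum_rr hw1 hw2 hw3 h hρ hτ
  have hirr : IsIrrCharacter (Pp K e) (Representation.character
      (MonoidHom.comp τ ρ : Representation ℂ (Pp K e) M)) :=
    Core.isIrr_comp ρ hρs (Core.isIrrCharacter_of_rep τ hτi)
  have hq0 : (Nat.card K : ℂ) ≠ 0 := Nat.cast_ne_zero.2 (by omega)
  rw [← Nat.card_eq_fintype_card] at hU hA
  obtain ⟨χ, χ₂, hχ, -, hχ1, -, hχz⟩ := hdd.exists_chars hirr hA (lam := Nat.card K) (mu := -(Nat.card K : ℂ) ^ 2)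
    (by ring) (by rw [hU]; push_cast; ring) (by
      intro h1
      have h2 : (Nat.card K : ℂ) * (1 + Nat.card K) = 0 := by linear_combination h1
      have h3 : (1 + (Nat.card K : ℂ)) ≠ 0 := by
        have : ((1 + Nat.card K : ℕ) : ℂ) ≠ 0 := Nat.cast_ne_zero.2 (by omega)
        push_cast at this
        exact this
      exact (mul_eq_zero.1 h2).elim hq0 h3)
  obtain ⟨d, -, hd⟩ := Core.isIrr_apply_one hχ
  refine ⟨χ, d, (Pp K e).index, hχ, hd, ?_, fun hτ1 z hzv => ?_⟩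
  · have h1 : Representation.character (MonoidHom.comp τ ρ : Representation ℂ (Pp K e) M) 1 = (finrank ℂ M : ℂ) :=
      Representation.char_one _
    rw [hd, h1] at hχ1
    have h2 : (Nat.card K : ℂ) * (((Nat.card K + 1) * d : ℕ) : ℂ) =
        (Nat.card K : ℂ) * ((Nat.card K * ((Pp K e).index * finrank ℂ M) : ℕ) : ℂ) := by
      push_cast
      linear_combination hχ1
    exact_mod_cast mul_left_cancel₀ hq0 h2
  · have hzP : z ∈ Pp K e := mem_Pp (hzv _)
    refine (hχz ⟨z, hzP⟩ (fun g => iso_ext fun v => ?_) ?_).1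
    · rw [CForm.mul_apply', CForm.mul_apply']
      change (g : (Fin 2 ⊕ Fin 2 → K) ≃ₗ[K] (Fin 2 ⊕ Fin 2 → K)) ((z :
        (Fin 2 ⊕ Fin 2 → K) ≃ₗ[K] (Fin 2 ⊕ Fin 2 → K)) v) = (z :
        (Fin 2 ⊕ Fin 2 → K) ≃ₗ[K] (Fin 2 ⊕ Fin 2 → K)) _
      rw [hzv, hzv, map_smul]
    · rw [MonoidHom.comp_apply]
      refine hτ1 _ fun x => ?_
      rw [← sub_eq_zero]
      refine (CForm.spF K 1).nondeg _ fun y => ?_
      rw [(CForm.spF K 1).B_sub_left, hρ]
      change (CForm.spF K 2).B ((z : (Fin 2 ⊕ Fin 2 → K) ≃ₗ[K] (Fin 2 ⊕ Fin 2 → K)) (j x)) (j y) - _ = 0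
      rw [hzv, (CForm.spF K 2).B_smul_left, h.hjB, (CForm.spF K 1).B_neg_left]
      ring

/-- **`PSp_4(q)`: the prime `p` and an odd prime `r ∣ q - 1`** -/
theorem sp4_pr (K : Type u) [Field K] [Finite K] {p r : ℕ} [Fact p.Prime] [CharP K p] (hr : r.Prime) (hr2 : r ≠ 2)
    (hrd : r ∣ Nat.card K - 1) : Cfsg.Agent.H671.H5.Adj p r (PSp 2 K) := by
  classical
  have hp : p.Prime := Fact.out
  let _ : Fintype K := Fintype.ofFinite K
  have hq1 : 1 < Nat.card K := Finite.one_lt_card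
  have hpq : p ∣ Nat.card K := by
    obtain ⟨s, hs⟩ := card_pow K p
    rw [hs] at hq1 ⊢
    exact dvd_pow_self p (by rintro rfl; simp at hq1)
  obtain ⟨M, _, _, _, τ, hτi, hτ, hτ1, hτr⟩ := exists_cu K hr hr2 hrd
  obtain ⟨χ, d, D, hχ, hd, hdeg, hχz⟩ := exists_char4 K hτi hτ
  have hpd : p ∣ d := by
    have h1 : p ∣ (Nat.card K + 1) * d := by rw [hdeg]; exact Dvd.dvd.mul_right hpq _
    refine (hp.dvd_mul.1 h1).resolve_left fun h2 => ?_
    have h3 := (Nat.dvd_add_right hpq).1 h2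
    exact hp.one_lt.ne' (Nat.dvd_one.1 h3)
  have hrd' : r ∣ d := by
    have h1 : r ∣ (Nat.card K + 1) * d := by rw [hdeg]; exact Dvd.dvd.mul_left (Dvd.dvd.mul_left hτr _) _
    refine (hr.dvd_mul.1 h1).resolve_left fun h2 => ?_
    have h3 : Nat.card K + 1 = (Nat.card K - 1) + 2 := by omega
    rw [h3] at h2
    have h4 := (Nat.dvd_add_right hrd).1 h2
    exact hr2 ((Nat.prime_dvd_prime_iff_eq hr Nat.prime_two).1 h4)
  have hpr : p ≠ r := by
    rintro rfl
    have h1 : p ∣ 1 := by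
      have h2 : Nat.card K = (Nat.card K - 1) + 1 := by omega
      rw [h2] at hpq
      exact (Nat.dvd_add_right hrd).1 hpq
    exact hp.one_lt.ne' (Nat.dvd_one.1 h1)
  -- descent
  have hfin : Finite (Matrix.symplecticGroup (Fin 2) K) := inferInstance
  have hχ' : IsIrrCharacter _ (χ ∘ (isoSp 2 K).toMonoidHom) :=
    Core.isIrr_comp (isoSp 2 K).toMonoidHom (isoSp 2 K).surjective hχ
  obtain ⟨η, hη, hη'⟩ := exists_quot (Subgroup.center (Matrix.symplecticGroup (Fin 2) K)) hχ' (fun z hz => by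
    change χ (isoSp 2 K z) = χ (isoSp 2 K 1)
    rw [map_one]
    rcases Cfsg.Agent.ClassicalGeometry.SympInvolutions.center_eq hz with h1 | h1
    · have h2 : z = 1 := Subtype.ext h1
      rw [h2, map_one]
    · refine hχz hτ1 _ fun v => ?_
      rw [isoSp_apply, h1, Matrix.neg_mulVec, Matrix.one_mulVec, neg_one_smul])
  refine adj_of_ch (d := d) ⟨η, hη, ?_⟩ hp hr hpr hpd hrd'
  have h1 := hη' 1
  rw [QuotientGroup.mk_one] at h1
  rw [h1]
  change χ (isoSp 2 K 1) = _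
  rw [map_one, hd]

/-- an irreducible character of even degree of `Sp_4(2)` -/
theorem exists_even (K : Type u) [Field K] [Finite K] (hK : Nat.card K = 2) :
    ∃ (χ : (CForm.spF K 2).iso → ℂ) (d : ℕ), IsIrrCharacter _ χ ∧ χ 1 = (d : ℂ) ∧ 2 ∣ d := by
  let _ : Fintype K := Fintype.ofFinite K
  obtain ⟨M, _, _, _, τ, hτi, hτ⟩ := exists_cu_one K
  obtain ⟨χ, d, D, hχ, hd, hdeg, -⟩ := exists_char4 K hτi hτ
  refine ⟨χ, d, hχ, hd, ?_⟩
  rw [hK] at hdeg
  omega

end Cfsg.Agent.H722.HC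
end
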