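import Cfsg.Agent.H477.HC.SpSix
import Cfsg.Agent.H477.HC.Rk3Chars_m3
import Cfsg.Agent.H677.DG.Tri42
import Cfsg.Agent.H677.DG.SpRank
import Cfsg.Agent.H996.Deg.Two
import Cfsg.Agent.H477.HC.HcPt
import Cfsg.Agent.H722.HC.SpFour
import Cfsg.Agent.H749.TwoMinus
import Cfsg.Agent.Prune
set_option linter.all false

section
prune_inst 0x7ffffdfcfbaf7fffffff7e3ffefdfffe13c7dfffefdffd43fffcefbf8fdf939e2fedfbaf0de0f8ff0ed6e21418b97853fb7eeeffe36fdc7ffffdfff45ffbee5ff7ffbd0851df98b40fbc6fff93f07f8e7f3fffffffffffffffffffffffffffbeffbfffffffff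

-- part: H477/HC/Small
section
prune_inst 0x2030040000000000040010000002c0000000020020800021000302020001000040090000200112104ea20000400048110000800200000000000000000000000007520202500d04200000801004000000000000000000000000000000000004000000000
set_option linter.all false
open scoped Cfsg.Agent.FastGrp

/-!
# Some small groups (hub H5, helper477)

`tsp43`, `rsp63`, `ro8m`, `edgeSp2` : the hypotheses of `FactsC`, apart from `TSp62`.
-/

set_option autoImplicit false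

open scoped ComplexConjugate
open Cfsg

namespace Cfsg.Agent.H477.HC

open Cfsg.Agent.Characters Module Cfsg.Agent.H53.HC Cfsg.Agent.H671.H5

universe u

theorem ch_of_mem {S : Type u} [Group S] {d : ℕ} (h : d ∈ charDegrees S) : Ch S d := by
  obtain ⟨χ, rfl⟩ := h
  refine ⟨χ, χ.2, ?_⟩
  obtain ⟨n, ρ, hρ, h⟩ := χ.2
  have h1 : (χ : S → ℂ) 1 = (n : ℂ) := by
    rw [← h]
    rw [Representation.char_one, Module.finrank_fin_fun]
  rw [h1, H670.PSing.charDegree_eq_of h1]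

theorem tsp43 : TSp43 := by
  intro F _ _ hF
  exact ⟨15, dvd_rfl, ch_of_mem (H677.Tri42.fifteen hF)⟩

theorem rsp63 : RSp63 := by
  intro F _ _ hF
  obtain ⟨χ₁, χ₂, f, g, h1, h2, h3, h4, h5, h6⟩ := H677.SpRank.exists_chars (F := F) (m := 3) (by norm_num)
  rw [Nat.card_eq_fintype_card, hF] at h5 h6
  norm_num at h5 h6
  have e1 : f = 195 := by omega
  have e2 : g = 168 := by omega
  subst e1
  subst e2
  exact ⟨⟨χ₁, h1, h3⟩, ⟨χ₂, h2, h4⟩⟩

theorem ro8m : RO8m := by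
  intro F _ _ a b hab
  obtain ⟨s, t, h1, -, h2, -⟩ := rk3_minus F a b hab (l := 3) le_rfl
  have hq : 2 ≤ Nat.card F := Finite.one_lt_card
  have hs : s = Nat.card F ^ 2 * (Nat.card F ^ 4 + Nat.card F ^ 2 + 1) := by
    have h3 : ((Nat.card F : ℤ) ^ 2 - 1) ≠ 0 := by
      have : (2 : ℤ) ≤ Nat.card F := by exact_mod_cast hq
      nlinarith
    have h4 : (s : ℤ) = Nat.card F ^ 2 * (Nat.card F ^ 4 + Nat.card F ^ 2 + 1) := by
      apply mul_left_cancel₀ h3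
      rw [h2]
      ring
    exact_mod_cast h4
  refine ⟨s, h1, fun p hp hd => ?_, fun r hr hd => ?_⟩
  · rw [hs, ← Nat.card_eq_fintype_card] at *
    exact Dvd.dvd.mul_right (hd.trans (dvd_pow_self _ (by norm_num))) _
  · rw [hs]
    rw [← Nat.card_eq_fintype_card] at hd
    exact Dvd.dvd.mul_left hd _

end Cfsg.Agent.H477.HC
end

-- part: H722/HC/PrPlus
section
prune_inst 0x400000000000000000000000000000000000000000000000000000000000000000000000000000000000000000000000006000000000000000000000000000000000000000000000000000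
set_option linter.all false
open scoped Cfsg.Agent.FastGrp

-- part: H722/HC/IsoCh
section
/-!
# The two rank 3 characters of the full isometry groups (helper722, for S4984)

`exists_chars_iso` : `exists_chars_of` for the full isometry group, with the complements in the permutation
character on the points, as needed for `exists_hc_pt`; `chars_plus`, `chars_minus`.
-/

set_option autoImplicit false

open scoped ComplexConjugate
open Cfsg

namespace Cfsg.Agent.H722.HC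

open Cfsg.Agent.OddOrderCharacters.Clifford Cfsg.Agent.Characters MulAction Module Cfsg.Agent.H53.HC
open Cfsg.Agent.H477.HC Cfsg.Agent.H477.HC.CForm

universe u v w

section

variable {K : Type u} [Field K] {V : Type v} [AddCommGroup V] [Module K V] {F : CForm K V}
  {X : Type w} [AddCommGroup X] [Module K X] {F' : CForm K X} {e f : V} {j : X →ₗ[K] V}

/-- **the two characters of `F.iso`** in the permutation character on the points -/
theorem exists_chars_sum [FiniteDimensional K V] [Finite V] [Finite K] [Finite X] (h : Hyp F F' e f j) {P P' : ℕ}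
    (hP : 2 ≤ P) (hP' : 1 ≤ P')
    (hX : Nat.card {x : X // F'.Sing x} = (P - 1) * (P' + 1) + 1)
    (hV : Nat.card {v : V // F.Sing v} = (Nat.card K * P - 1) * (Nat.card K * P' + 1) + 1) :
    ∃ (ψ₁ ψ₂ : F.iso → ℂ) (a b : ℕ), IsIrrCharacter _ ψ₁ ∧ IsIrrCharacter _ ψ₂ ∧ ψ₁ 1 = a ∧ ψ₂ 1 = b ∧
      ((Nat.card K : ℤ) - 1) * (P + P') * a = Nat.card K * P' * (P' + 1) * (Nat.card K * P - 1) ∧
      ((Nat.card K : ℤ) - 1) * (P + P') * b = Nat.card K * P * (P - 1) * (Nat.card K * P' + 1) ∧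
      (∀ g : F.iso, (Nat.card {y : F.Pt // g • y = y} : ℂ) = 1 + ψ₁ g + ψ₂ g) ∧
      ∀ (z : F.iso) (c : Kˣ), (∀ v, (z : V ≃ₗ[K] V) v = (c : K) • v) → ψ₁ z = ψ₁ 1 ∧ ψ₂ z = ψ₂ 1 := by
  classical
  have hq : 1 < Nat.card K := Finite.one_lt_card
  obtain ⟨q, hq'⟩ : ∃ q, q = Nat.card K := ⟨_, rfl⟩
  obtain ⟨n, hn⟩ : ∃ n, n = Nat.card F'.Pt := ⟨_, rfl⟩
  have hb := card_sing (F := F')
  rw [← hn] at hb
  rw [← hq'] at hq hV hb ⊢
  have hb1 : (q - 1) * n = (P - 1) * (P' + 1) := by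
    rw [hX] at hb
    exact Nat.add_right_cancel hb
  have hn0 : 0 < n := by
    rcases Nat.eq_zero_or_pos n with h0 | h0
    · exfalso
      rw [h0, mul_zero] at hb1
      have : 0 < (P - 1) * (P' + 1) := Nat.mul_pos (by omega) (by omega)
      omega
    · exact h0
  obtain ⟨s, rfl⟩ : ∃ s, q = s + 1 := ⟨q - 1, by omega⟩
  obtain ⟨t, rfl⟩ : ∃ t, P = t + 1 := ⟨P - 1, by omega⟩
  rw [Nat.add_sub_cancel, Nat.add_sub_cancel] at hb1
  have hl : (Nat.card K - 1) * (1 + Nat.card K * n + (s + 1) * ((t + 1) * P')) + 1 = Nat.card {v : V // F.Sing v} := by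
    rw [hV, ← hq', Nat.add_sub_cancel]
    have e1 : (s + 1) * (t + 1) - 1 = s * t + s + t := by
      have : (s + 1) * (t + 1) = s * t + s + t + 1 := by ring
      omega
    rw [e1]
    have e2 : s * (1 + (s + 1) * n + (s + 1) * ((t + 1) * P')) + 1 =
        s + (s + 1) * (s * n) + s * ((s + 1) * ((t + 1) * P')) + 1 := by ring
    rw [e2, hb1]
    ring
  obtain ⟨hr3, x₀, y₀, hxy, hR, hcom⟩ := r3 h (b := n) (l := (s + 1) * ((t + 1) * P')) (by rw [← hq']; exact hb) hl hn0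
    (by (clear * - hP'; positivity)) ⊤ (fun g x y => ⟨g, Subgroup.mem_top g, rfl, rfl⟩)
  have hbZ : (s : ℤ) * n = t * (P' + 1) := by exact_mod_cast hb1
  have := Fintype.ofFinite F.Pt
  have : Finite F.iso := finite_iso F
  have hnP : (t : ℤ) - (-(P' : ℤ) - 1) = t + 1 + P' := by ring
  obtain ⟨χ₁, χ₂, a, b, h1, h88⟩ := H113.PSU.Rank3.frame_exact hr3 hxy hR hcom
    (r := (t : ℤ)) (s := -(P' : ℤ) - 1) (by
      intro h0
      have : (t : ℤ) + 1 + P' = 0 := by rw [h0]; ring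
      omega)
    (by
      rw [← hq']
      push_cast
      linear_combination hbZ)
    (by
      rw [← hq']
      push_cast
      linear_combination (-(((s : ℤ) + 1) * n)) * hbZ)
  revert h88; rintro ⟨h2, h3, h4, h5, h6⟩
  rw [← hq'] at h3 h4
  push_cast at h3 h4
  let φ : F.iso →* (⊤ : Subgroup F.iso) := (Subgroup.topEquiv (G := F.iso)).symm.toMonoidHom
  have hφs : Function.Surjective φ := (Subgroup.topEquiv (G := F.iso)).symm.surjective
  have hφ : ∀ g : F.iso, ((φ g : (⊤ : Subgroup F.iso)) : F.iso) = g := fun g => rfl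
  have hi1 : IsIrrCharacter _ ((χ₁ : (⊤ : Subgroup F.iso) → ℂ) ∘ φ) := Core.isIrr_comp φ hφs χ₁.2
  have hi2 : IsIrrCharacter _ ((χ₂ : (⊤ : Subgroup F.iso) → ℂ) ∘ φ) := Core.isIrr_comp φ hφs χ₂.2
  have hfix : ∀ g : F.iso, (Nat.card {y : F.Pt // g • y = y} : ℂ) =
      1 + (χ₁ : (⊤ : Subgroup F.iso) → ℂ) (φ g) + (χ₂ : (⊤ : Subgroup F.iso) → ℂ) (φ g) := by
    intro g
    rw [← h5 (φ g)]
    rfl
  refine ⟨_, _, a, b, hi1, hi2, ?_, ?_, ?_, ?_, hfix, ?_⟩
  · rw [Function.comp_apply, map_one, h1]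
  · rw [Function.comp_apply, map_one, h2]
  · push_cast
    linear_combination (s : ℤ) * h3 + (((s : ℤ) + 1) * P') * hbZ
  · push_cast
    linear_combination (s : ℤ) * h4 + (((s : ℤ) + 1) * (t + 1)) * hbZ
  · intro z c hz
    have h7 := h6 (φ z) (fun y => by
      apply Subtype.ext
      change (y.1).map (F.iso.subtype z : V →ₗ[K] V) = y.1
      exact map_eq_of_le F.iso.subtype fun w hw => by
        change (z : V ≃ₗ[K] V) w ∈ y.1
        rw [hz]; exact y.1.smul_mem _ hw)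
    rw [Function.comp_apply, Function.comp_apply, Function.comp_apply, Function.comp_apply, map_one, h1, h2]
    exact h7

/-- **the two characters of `F.iso`**, with their complements in the permutation character on the points -/
theorem exists_chars_iso [FiniteDimensional K V] [Finite V] [Finite K] [Finite X] (h : Hyp F F' e f j) {P P' : ℕ}
    (hP : 2 ≤ P) (hP' : 1 ≤ P')
    (hX : Nat.card {x : X // F'.Sing x} = (P - 1) * (P' + 1) + 1)
    (hV : Nat.card {v : V // F.Sing v} = (Nat.card K * P - 1) * (Nat.card K * P' + 1) + 1) :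
    ∃ (ψ₁ ψ₂ θ₁ θ₂ : F.iso → ℂ) (a b : ℕ), IsIrrCharacter _ ψ₁ ∧ IsIrrCharacter _ ψ₂ ∧ ψ₁ 1 = a ∧ ψ₂ 1 = b ∧
      ((Nat.card K : ℤ) - 1) * (P + P') * a = Nat.card K * P' * (P' + 1) * (Nat.card K * P - 1) ∧
      ((Nat.card K : ℤ) - 1) * (P + P') * b = Nat.card K * P * (P - 1) * (Nat.card K * P' + 1) ∧
      IsCharacter _ θ₁ ∧ IsCharacter _ θ₂ ∧
      (∀ g, ψ₁ g + θ₁ g = (Nat.card {y : F.Pt // g • y = y} : ℂ)) ∧
      (∀ g, ψ₂ g + θ₂ g = (Nat.card {y : F.Pt // g • y = y} : ℂ)) ∧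
      ∀ (z : F.iso) (c : Kˣ), (∀ v, (z : V ≃ₗ[K] V) v = (c : K) • v) → ψ₁ z = ψ₁ 1 ∧ ψ₂ z = ψ₂ 1 := by
  have : Finite F.iso := finite_iso F
  obtain ⟨ψ₁, ψ₂, a, b, h1, h88⟩ := exists_chars_sum h hP hP' hX hV
  revert h88; rintro ⟨h2, h3, h4, h5, h6, h88⟩
  revert h88; rintro ⟨h7, h8⟩
  have hone : IsCharacter F.iso (fun _ => (1 : ℂ)) := Core.isIrr_isCharacter Core.isIrr_one
  refine ⟨ψ₁, ψ₂, fun g => 1 + ψ₂ g, fun g => 1 + ψ₁ g, a, b, h1, h2, h3, h4, h5, h6,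
    Core.isCharacter_add hone (Core.isIrr_isCharacter h2), Core.isCharacter_add hone (Core.isIrr_isCharacter h1),
    fun g => ?_, fun g => ?_, h8⟩
  · rw [h7]; ring
  · rw [h7]; ring

end

section rows

variable (K : Type u) [Field K] [Finite K]

/-- **`O⁺_{2m}(q)`**, `m ≥ 2` -/
theorem chars_plus {m : ℕ} (hm : 2 ≤ m) : ∃ (ψ₁ ψ₂ θ₁ θ₂ : (CForm.plusF K m).iso → ℂ) (a b : ℕ),
    IsIrrCharacter _ ψ₁ ∧ IsIrrCharacter _ ψ₂ ∧ ψ₁ 1 = a ∧ ψ₂ 1 = b ∧
    ((Nat.card K : ℤ) ^ 2 - 1) * a = Nat.card K * (Nat.card K ^ (m - 2) + 1) * ((Nat.card K : ℤ) ^ m - 1) ∧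
    ((Nat.card K : ℤ) ^ 2 - 1) * b = Nat.card K ^ 2 * ((Nat.card K : ℤ) ^ (2 * m - 2) - 1) ∧
    IsCharacter _ θ₁ ∧ IsCharacter _ θ₂ ∧
    (∀ g, ψ₁ g + θ₁ g = (Nat.card {y : (CForm.plusF K m).Pt // g • y = y} : ℂ)) ∧
    (∀ g, ψ₂ g + θ₂ g = (Nat.card {y : (CForm.plusF K m).Pt // g • y = y} : ℂ)) ∧
    ∀ (z : (CForm.plusF K m).iso) (c : Kˣ),
      (∀ v, (z : (Fin m ⊕ Fin m → K) ≃ₗ[K] (Fin m ⊕ Fin m → K)) v = (c : K) • v) → ψ₁ z = ψ₁ 1 ∧ ψ₂ z = ψ₂ 1 := by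
  classical
  have hfin := Fintype.ofFinite K
  have hq : 2 ≤ Nat.card K := Finite.one_lt_card
  obtain ⟨n, rfl⟩ : ∃ n, m = n + 2 := ⟨m - 2, by omega⟩
  obtain ⟨e, f, j, h⟩ := CForm.frm_plus (K := K) (show 1 + (n + 1) = n + 2 by omega)
  have hc : Fintype.card K = Nat.card K := Nat.card_eq_fintype_card.symm
  obtain ⟨ψ₁, ψ₂, θ₁, θ₂, a, h88⟩ := exists_chars_iso h.hyp
    (P := Nat.card K ^ (n + 1)) (P' := Nat.card K ^ n) (two_le_pow hq (by omega)) (Nat.one_le_pow _ _ (by omega))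
    (by
      rw [card_Sing_quad, ← num_plus hq n]
      exact S0289.result hc (n + 1) (by omega))
    (by
      rw [card_Sing_quad, ← pow_succ', ← pow_succ', ← num_plus hq (n + 1)]
      exact S0289.result hc (n + 2) (by omega))
  revert h88; rintro ⟨b, c1, c2, c3, c4, h88⟩
  revert h88; rintro ⟨c5, c6, c7, c8, c9, h88⟩
  revert h88; rintro ⟨c10, c11⟩
  refine ⟨ψ₁, ψ₂, θ₁, θ₂, a, b, c1, c2, c3, c4, ?_, ?_, c7, c8, c9, c10, c11⟩
  · have hz : ((Nat.card K : ℤ) ^ n) ≠ 0 := pow_ne_zero _ (by exact_mod_cast (by omega : Nat.card K ≠ 0))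
    apply mul_left_cancel₀ hz
    have e2 : n + 2 - 2 = n := by omega
    rw [e2]
    push_cast at c5
    linear_combination c5
  · have hz : ((Nat.card K : ℤ) ^ n) ≠ 0 := pow_ne_zero _ (by exact_mod_cast (by omega : Nat.card K ≠ 0))
    apply mul_left_cancel₀ hz
    have e2 : 2 * (n + 2) - 2 = (n + 1) + (n + 1) := by omega
    rw [e2]
    push_cast at c6
    linear_combination c6

/-- **`O⁻_{2l+2}(q)`**, `l ≥ 2` -/
theorem chars_minus (a b : K) (hab : ∀ z₁ z₂ : K, z₁ ^ 2 + a * z₁ * z₂ + b * z₂ ^ 2 = 0 → z₁ = 0 ∧ z₂ = 0) {l : ℕ}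
    (hl : 2 ≤ l) : ∃ (ψ₁ ψ₂ θ₁ θ₂ : (CForm.minusF K l a b hab).iso → ℂ) (s t : ℕ),
    IsIrrCharacter _ ψ₁ ∧ IsIrrCharacter _ ψ₂ ∧ ψ₁ 1 = s ∧ ψ₂ 1 = t ∧
    ((Nat.card K : ℤ) ^ 2 - 1) * s = Nat.card K ^ 2 * ((Nat.card K : ℤ) ^ (2 * l) - 1) ∧
    ((Nat.card K : ℤ) ^ 2 - 1) * t = Nat.card K * (Nat.card K ^ (l + 1) + 1) * ((Nat.card K : ℤ) ^ (l - 1) - 1) ∧
    IsCharacter _ θ₁ ∧ IsCharacter _ θ₂ ∧
    (∀ g, ψ₁ g + θ₁ g = (Nat.card {y : (CForm.minusF K l a b hab).Pt // g • y = y} : ℂ)) ∧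
    (∀ g, ψ₂ g + θ₂ g = (Nat.card {y : (CForm.minusF K l a b hab).Pt // g • y = y} : ℂ)) ∧
    ∀ (z : (CForm.minusF K l a b hab).iso) (c : Kˣ),
      (∀ v, (z : ((Fin l ⊕ Fin l) ⊕ Fin 2 → K) ≃ₗ[K] ((Fin l ⊕ Fin l) ⊕ Fin 2 → K)) v = (c : K) • v) →
        ψ₁ z = ψ₁ 1 ∧ ψ₂ z = ψ₂ 1 := by
  classical
  have hfin := Fintype.ofFinite K
  have hq : 2 ≤ Nat.card K := Finite.one_lt_card
  obtain ⟨n, rfl⟩ : ∃ n, l = n + 1 := ⟨l - 1, by omega⟩
  obtain ⟨e, f, j, h⟩ := CForm.frm_minus (K := K) hab (show 1 + n = n + 1 by omega)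
  have hc : Fintype.card K = Nat.card K := Nat.card_eq_fintype_card.symm
  obtain ⟨ψ₁, ψ₂, θ₁, θ₂, s, t, c1, c2, c3, c4, c5, c6, c7, c8, c9, c10, c11⟩ := exists_chars_iso h.hyp
    (P := Nat.card K ^ n)
    (P' := Nat.card K ^ (n + 1)) (two_le_pow hq (by omega)) (Nat.one_le_pow _ _ (by omega))
    (by
      rw [card_Sing_quad, ← num_minus hq n]
      exact S0290.result hc (n + 1) (by omega) a b hab)
    (by
      rw [card_Sing_quad, ← pow_succ', ← pow_succ', ← num_minus hq (n + 1)]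
      exact S0290.result hc (n + 2) (by omega) a b hab)
  refine ⟨ψ₁, ψ₂, θ₁, θ₂, s, t, c1, c2, c3, c4, ?_, ?_, c7, c8, c9, c10, c11⟩
  · have hz : ((Nat.card K : ℤ) ^ n) ≠ 0 := pow_ne_zero _ (by exact_mod_cast (by omega : Nat.card K ≠ 0))
    apply mul_left_cancel₀ hz
    have e2 : 2 * (n + 1) = (n + 1) + (n + 1) := by omega
    rw [e2]
    push_cast at c5
    linear_combination c5
  · have hz : ((Nat.card K : ℤ) ^ n) ≠ 0 := pow_ne_zero _ (by exact_mod_cast (by omega : Nat.card K ≠ 0))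
    apply mul_left_cancel₀ hz
    have e2 : n + 1 - 1 = n := by omega
    rw [e2]
    push_cast at c6
    linear_combination c6

/-- the same for `O⁻_{2l+2}(q)`, `l ≥ 2`, with the sum -/
theorem sum_minus (a b : K) (hab : ∀ z₁ z₂ : K, z₁ ^ 2 + a * z₁ * z₂ + b * z₂ ^ 2 = 0 → z₁ = 0 ∧ z₂ = 0) {l : ℕ}
    (hl : 2 ≤ l) : ∃ (ψ₁ ψ₂ : (CForm.minusF K l a b hab).iso → ℂ) (s t : ℕ),
    IsIrrCharacter _ ψ₁ ∧ IsIrrCharacter _ ψ₂ ∧ ψ₁ 1 = s ∧ ψ₂ 1 = t ∧
    ((Nat.card K : ℤ) ^ 2 - 1) * s = Nat.card K ^ 2 * ((Nat.card K : ℤ) ^ (2 * l) - 1) ∧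
    ((Nat.card K : ℤ) ^ 2 - 1) * t = Nat.card K * (Nat.card K ^ (l + 1) + 1) * ((Nat.card K : ℤ) ^ (l - 1) - 1) ∧
    (∀ g : (CForm.minusF K l a b hab).iso, (Nat.card {y : (CForm.minusF K l a b hab).Pt // g • y = y} : ℂ) =
      1 + ψ₁ g + ψ₂ g) ∧
    ∀ (z : (CForm.minusF K l a b hab).iso) (c : Kˣ),
      (∀ v, (z : ((Fin l ⊕ Fin l) ⊕ Fin 2 → K) ≃ₗ[K] ((Fin l ⊕ Fin l) ⊕ Fin 2 → K)) v = (c : K) • v) →
        ψ₁ z = ψ₁ 1 ∧ ψ₂ z = ψ₂ 1 := by
  classical
  have hfin := Fintype.ofFinite K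
  have hq : 2 ≤ Nat.card K := Finite.one_lt_card
  obtain ⟨n, rfl⟩ : ∃ n, l = n + 1 := ⟨l - 1, by omega⟩
  obtain ⟨e, f, j, h⟩ := CForm.frm_minus (K := K) hab (show 1 + n = n + 1 by omega)
  have hc : Fintype.card K = Nat.card K := Nat.card_eq_fintype_card.symm
  obtain ⟨ψ₁, ψ₂, s, t, c1, c2, c3, c4, c5, c6, c9, c11⟩ := exists_chars_sum h.hyp
    (P := Nat.card K ^ n)
    (P' := Nat.card K ^ (n + 1)) (two_le_pow hq (by omega)) (Nat.one_le_pow _ _ (by omega))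
    (by
      rw [card_Sing_quad, ← num_minus hq n]
      exact S0290.result hc (n + 1) (by omega) a b hab)
    (by
      rw [card_Sing_quad, ← pow_succ', ← pow_succ', ← num_minus hq (n + 1)]
      exact S0290.result hc (n + 2) (by omega) a b hab)
  refine ⟨ψ₁, ψ₂, s, t, c1, c2, c3, c4, ?_, ?_, c9, c11⟩
  · have hz : ((Nat.card K : ℤ) ^ n) ≠ 0 := pow_ne_zero _ (by exact_mod_cast (by omega : Nat.card K ≠ 0))
    apply mul_left_cancel₀ hz
    have e2 : 2 * (n + 1) = (n + 1) + (n + 1) := by omega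
    rw [e2]
    push_cast at c5
    linear_combination c5
  · have hz : ((Nat.card K : ℤ) ^ n) ≠ 0 := pow_ne_zero _ (by exact_mod_cast (by omega : Nat.card K ≠ 0))
    apply mul_left_cancel₀ hz
    have e2 : n + 1 - 1 = n := by omega
    rw [e2]
    push_cast at c6
    linear_combination c6

end rows

end Cfsg.Agent.H722.HC
end

-- part: H722/HC/PrSp
section
/-!
# `PSp_{2m}(q)`: the characteristic `p` is adjacent to every prime divisor of the order (helper722, for S4984)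
-/

set_option autoImplicit false

open scoped ComplexConjugate
open Cfsg

namespace Cfsg.Agent.H722.HC

open Cfsg.Agent.Characters Module Cfsg.Agent.H53.HC Cfsg.Agent.H477.HC Cfsg.Agent.H749.Two Cfsg.Agent.H671.H5

universe u v w

/-- `p` divides the rank 3 degrees -/
theorem p_dvd_rk {p q : ℕ} (hp : p.Prime) (hpq : p ∣ q) (h4 : p = 2 → 4 ∣ q) {f : ℕ} {X : ℤ}
    (h : 2 * ((q : ℤ) - 1) * f = q * X) : p ∣ f := by
  by_cases h2 : p = 2
  · obtain ⟨t, rfl⟩ := h4 h2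
    subst h2
    push_cast at h
    have h5 : (f : ℤ) = 2 * (t * (2 * f - X)) := by linarith
    have h6 : ((2 : ℕ) : ℤ) ∣ (f : ℤ) := ⟨_, by push_cast; exact h5⟩
    exact_mod_cast h6
  · obtain ⟨t, rfl⟩ := hpq
    push_cast at h
    have h5 : (2 : ℤ) * f = p * (t * (2 * f - X)) := by linarith
    have h6 : (p : ℤ) ∣ ((2 * f : ℕ) : ℤ) := ⟨_, by push_cast; exact h5⟩
    have h7 : p ∣ 2 * f := by exact_mod_cast h6
    exact (hp.dvd_mul.1 h7).resolve_left fun h8 => h2 ((Nat.prime_dvd_prime_iff_eq hp Nat.prime_two).1 h8)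

theorem r_dvd_rk {r q : ℕ} (hr : r.Prime) (hr2 : ¬ r ∣ 2 * (q - 1)) (hq : 1 ≤ q) {f : ℕ} {X Y : ℤ}
    (h : 2 * ((q : ℤ) - 1) * f = X * Y) (hX : (r : ℤ) ∣ X) : r ∣ f := by
  have h1 : (r : ℤ) ∣ ((2 * (q - 1) * f : ℕ) : ℤ) := by
    push_cast [Nat.cast_sub hq]
    rw [h]
    exact Dvd.dvd.mul_right hX _
  exact (hr.dvd_mul.1 (by exact_mod_cast h1)).resolve_left hr2

theorem four_dvd (K : Type u) [Field K] [Finite K] {p : ℕ} [Fact p.Prime] [CharP K p] (h : Nat.card K ≠ 2) :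
    p = 2 → 4 ∣ Nat.card K := by
  rintro rfl
  obtain ⟨s, hs⟩ := card_pow K 2
  have h1 : 1 < Nat.card K := Finite.one_lt_card
  rw [hs] at h h1 ⊢
  have h2 : 2 ≤ s := by
    by_contra h3
    have h4 : s = 0 ∨ s = 1 := by omega
    rcases h4 with rfl | rfl
    · norm_num at h1
    · norm_num at h
  exact pow_dvd_pow 2 h2

/-- `m = 2` -/
theorem pr_sp_two (K : Type u) [Field K] [Finite K] {p : ℕ} [Fact p.Prime] [CharP K p]
    (h2 : Nat.card K ≠ 2) {r : ℕ} (hr : r.Prime) (hrp : r ≠ p) (hd : r ∣ Nat.card (PSp 2 K)) :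
    Adj p r (PSp 2 K) := by
  have hp : p.Prime := Fact.out
  have hq : 2 ≤ Nat.card K := Finite.one_lt_card
  have hpq := char_dvd K (p := p)
  let _ : Fintype K := Fintype.ofFinite K
  obtain ⟨χ₁, χ₂, f, g, i1, i2, i3, i4, i5, i6⟩ := H677.SpRank.exists_chars (F := K) (m := 2) le_rfl
  have hpf : p ∣ f := p_dvd_rk hp hpq (four_dvd K h2) (i5.trans (mul_assoc _ _ _))
  have hpg : p ∣ g := p_dvd_rk hp hpq (four_dvd K h2) (i6.trans (mul_assoc _ _ _))
  have hq1 : ((Nat.card K : ℤ) - 1) ≠ 0 := by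
    have : (2 : ℤ) ≤ Nat.card K := by exact_mod_cast hq
    omega
  have e5 : (2 : ℤ) * f = Nat.card K * (Nat.card K + 1) ^ 2 := by
    apply mul_left_cancel₀ hq1
    linear_combination i5
  have e6 : (2 : ℤ) * g = Nat.card K * ((Nat.card K : ℤ) ^ 2 + 1) := by
    apply mul_left_cancel₀ hq1
    linear_combination i6
  have hf : ∀ r : ℕ, r.Prime → r ∣ Nat.card K + 1 → r ∣ f := by
    intro r hr h
    by_cases hr2 : r = 2
    · subst hr2
      obtain ⟨t, ht⟩ := h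
      have h1 : ((Nat.card K : ℤ) + 1) = 2 * t := by exact_mod_cast ht
      rw [h1] at e5
      have h3 : (f : ℤ) = 2 * (Nat.card K * t ^ 2) := by linarith only [e5]
      have h4 : ((2 : ℕ) : ℤ) ∣ (f : ℤ) := ⟨_, by push_cast; exact h3⟩
      exact_mod_cast h4
    · have h1 : (r : ℤ) ∣ ((2 * f : ℕ) : ℤ) := by
        push_cast
        rw [e5]
        refine Dvd.dvd.mul_left (dvd_pow ?_ two_ne_zero) _
        exact_mod_cast h
      exact (hr.dvd_mul.1 (by exact_mod_cast h1)).resolve_left fun h8 =>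
        hr2 ((Nat.prime_dvd_prime_iff_eq hr Nat.prime_two).1 h8)
  have hg : ∀ r : ℕ, r.Prime → r ≠ 2 → r ∣ Nat.card K ^ 2 + 1 → r ∣ g := by
    intro r hr hr2 h
    have h1 : (r : ℤ) ∣ ((2 * g : ℕ) : ℤ) := by
      push_cast
      rw [e6]
      refine Dvd.dvd.mul_left ?_ _
      exact_mod_cast h
    exact (hr.dvd_mul.1 (by exact_mod_cast h1)).resolve_left fun h8 =>
        hr2 ((Nat.prime_dvd_prime_iff_eq hr Nat.prime_two).1 h8)
  have key : ∀ r : ℕ, r.Prime → r ≠ p → r ∣ Nat.card K + 1 → Adj p r (PSp 2 K) := fun r hr hrp h =>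
    adj_of_ch ⟨χ₁, i1, i3⟩ hp hr (Ne.symm hrp) hpf (hf r hr h)
  by_cases hr2 : r = 2
  · subst hr2
    refine key 2 hr hrp ?_
    obtain ⟨s, hs⟩ := card_pow K p
    have h1 : Odd (Nat.card K) := by
      rw [hs]
      exact (hp.odd_of_ne_two (Ne.symm hrp)).pow
    rcases h1 with ⟨t, ht⟩
    exact ⟨t + 1, by omega⟩
  · obtain ⟨i, hi, h3⟩ := exists_idx hr (sp_prod K (p := p) hr hrp hd)
    rw [Finset.mem_range] at hi
    have h4 : r ∣ Nat.card K ^ 2 - 1 ∨ r ∣ Nat.card K ^ 2 + 1 := by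
      have h5 : i = 0 ∨ i = 1 := by omega
      rcases h5 with rfl | rfl
      · exact Or.inl h3
      · have h6 := sq_sub (Nat.card K) 2
        have h7 : Nat.card K ^ (2 * (1 + 1)) - 1 = (Nat.card K ^ 2 + 1) * (Nat.card K ^ 2 - 1) := h6
        rw [h7] at h3
        exact (hr.dvd_mul.1 h3).symm
    rcases h4 with h4 | h4
    · have h6 := sq_sub (Nat.card K) 1
      rw [mul_one, pow_one] at h6
      rw [h6] at h4
      rcases hr.dvd_mul.1 h4 with h5 | h5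
      · exact key r hr hrp h5
      · exact sp4_pr K hr hr2 h5
    · exact adj_of_ch ⟨χ₂, i2, i4⟩ hp hr (Ne.symm hrp) hpg (hg r hr hr2 h4)

/-- `q = 2`, `m ≥ 5`, `r ∣ 2^(m-1) - 1` -/
theorem pr_sp_even (K : Type u) [Field K] [Finite K] {p : ℕ} [Fact p.Prime] [CharP K p] {m : ℕ} (hm : 5 ≤ m)
    (h2 : Nat.card K = 2) {r : ℕ} (hr : r.Prime) (hrp : r ≠ p) (hd : r ∣ Nat.card K ^ (m - 1) - 1) :
    Adj p r (PSp m K) := by
  have hp : p.Prime := Fact.out
  have hpq := char_dvd K (p := p)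
  have hp2 : p = 2 := by
    rw [h2] at hpq
    exact (Nat.prime_dvd_prime_iff_eq hp Nat.prime_two).1 hpq
  obtain ⟨k, rfl⟩ : ∃ k, m = k + 2 := ⟨m - 2, by omega⟩
  obtain ⟨c, hc⟩ := exists_cus_sq K rfl k (by omega) (fun _ => by omega) (fun h => by omega) (fun h => by omega)
  obtain ⟨W₀, hW₀, hcmp⟩ := spF_cmp (K := K) k 2
  obtain ⟨ψ, d, hψ, hψ1, hψ2⟩ := exists_even K h2
  have hunit : ∀ a : Kˣ, a = 1 := by
    have h3 : Nat.card Kˣ = 1 := by rw [Nat.card_units, h2]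
    have : Subsingleton Kˣ := (Nat.card_eq_one_iff_unique.1 h3).1
    intro a
    exact Subsingleton.elim _ _
  obtain ⟨χ, hχ, hχ1, hχz⟩ := exists_prod hcmp hc hW₀ (m := k + 2) (fun W hW => by
    have h1 := two_finrank_le hW
    rw [Module.finrank_fintype_fun_eq_card] at h1
    simp only [Fintype.card_sum, Fintype.card_fin] at h1
    omega) (by omega) hψ hψ1 (fun z a _ hz => by
      have h3 : z = 1 := iso_ext fun v => by
        rw [hz, hunit a, Units.val_one, one_smul]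
        rfl
      rw [h3])
  have hch : Ch (PSp (k + 2) K) (dg (CForm.spF K (k + 2)) k * d) := sp_down hχ hχ1 hχz
  obtain ⟨e, he⟩ := psp_dvd K (p := p) (k := k) (n := 2) (by omega)
  have hk1 : k + 2 - 1 = k + 1 := by omega
  rw [hk1] at hd
  have h3 : r ∣ dg (CForm.spF K (k + 2)) k * (Nat.card K ^ k - 1) := by
    refine rm_p (p := p) hr hrp ?_ he
    refine Dvd.dvd.trans ?_ (Finset.dvd_prod_of_mem _ (Finset.mem_Ico.2 ⟨(by omega : 2 ≤ k), by omega⟩))
    rw [sq_sub]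
    exact Dvd.dvd.mul_left hd _
  have h4 : ¬ r ∣ Nat.card K ^ k - 1 := by
    intro h5
    rw [h2] at h5 hd
    have h6 : 1 ≤ 2 ^ k := Nat.one_le_pow _ _ (by norm_num)
    have h7 : 2 ^ (k + 1) - 1 = 2 * (2 ^ k - 1) + 1 := by
      rw [pow_succ]
      omega
    rw [h7] at hd
    have h8 := (Nat.dvd_add_right (Dvd.dvd.mul_left h5 2)).1 hd
    exact hr.one_lt.ne' (Nat.dvd_one.1 h8)
  exact adj_of_ch hch hp hr (Ne.symm hrp) (Dvd.dvd.mul_left (by rw [hp2]; exact hψ2) _)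
    (Dvd.dvd.mul_right ((hr.dvd_mul.1 h3).resolve_right h4) _)

/-- **(p, r) for `PSp_{2m}(q)`**, apart from `PSp_4(2)` and `(PSp_8(2), 7)` -/
theorem pr_sp (K : Type u) [Field K] [Finite K] {p : ℕ} [Fact p.Prime] [CharP K p] {m : ℕ} (hm : 2 ≤ m)
    (h22 : ¬ (m = 2 ∧ Nat.card K = 2)) {r : ℕ} (hr : r.Prime) (hrp : r ≠ p) (hd : r ∣ Nat.card (PSp m K))
    (h82 : m = 4 → Nat.card K = 2 → r ≠ 7) : Adj p r (PSp m K) := by
  have hp : p.Prime := Fact.out
  have hq : 2 ≤ Nat.card K := Finite.one_lt_card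
  have hpq := char_dvd K (p := p)
  by_cases hm2 : m = 2
  · subst hm2
    exact pr_sp_two K (fun h => h22 ⟨rfl, h⟩) hr hrp hd
  have hm3 : 3 ≤ m := by omega
  have hprod := sp_prod K (p := p) hr hrp hd
  let _ : Fintype K := Fintype.ofFinite K
  by_cases h3 : m = 3 ∧ Nat.card K = 2
  · obtain ⟨rfl, h3⟩ := h3
    have hp2 : p = 2 := by
      rw [h3] at hpq
      exact (Nat.prime_dvd_prime_iff_eq hp Nat.prime_two).1 hpq
    obtain ⟨d, h4, h5⟩ := tsp62 (ZMod 2) (ZMod.card 2)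
    have e0 : K ≃+* ZMod 2 := FiniteField.ringEquivOfCardEq (by
      rw [← Nat.card_eq_fintype_card, h3, ZMod.card 2])
    have h6 : Ch (PSp 3 K) d := h5.congr (Cfsg.Agent.LieClassical.FieldTransfer.pspCongr 3 e0)
    refine adj_of_ch h6 hp hr (Ne.symm hrp) (by rw [hp2]; exact Dvd.dvd.trans (by norm_num) h4) ?_
    rw [h3, Finset.prod_range_succ, Finset.prod_range_succ, Finset.prod_range_one] at hprod
    have h7 : r ∣ 3 ^ 4 * (5 * 7) := by norm_num at hprod ⊢; exact hprod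
    rcases hr.dvd_mul.1 h7 with h8 | h8
    · have h9 := (Nat.prime_dvd_prime_iff_eq hr Nat.prime_three).1 (hr.dvd_of_dvd_pow h8)
      rw [h9]
      exact Dvd.dvd.trans (by norm_num) h4
    · exact (h8.trans (by norm_num)).trans h4
  by_cases h3' : m = 3 ∧ Nat.card K = 3
  · obtain ⟨rfl, h3'⟩ := h3'
    have hp2 : p = 3 := by
      rw [h3'] at hpq
      exact (Nat.prime_dvd_prime_iff_eq hp Nat.prime_three).1 hpq
    obtain ⟨χ₁, χ₂, f, g, i1, h88⟩ := H677.SpRank.exists_chars (F := K) (m := 3) (by norm_num)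
    revert h88; rintro ⟨i2, i3, i4, i5, i6⟩
    rw [h3'] at i5 i6
    norm_num at i5 i6
    have e1 : f = 195 := by omega
    have e2 : g = 168 := by omega
    rw [h3', Finset.prod_range_succ, Finset.prod_range_succ, Finset.prod_range_one] at hprod
    have h7 : r ∣ 2 ^ 10 * (5 * (7 * 13)) := by norm_num at hprod ⊢; exact hprod
    have hg : ∀ r : ℕ, r.Prime → r ≠ p → r ∣ 168 → Adj p r (PSp 3 K) := fun r hr hrp h =>
      adj_of_ch ⟨χ₂, i2, by rw [i4, e2]⟩ hp hr (Ne.symm hrp) (by rw [hp2]; norm_num) h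
    have hf : ∀ r : ℕ, r.Prime → r ≠ p → r ∣ 195 → Adj p r (PSp 3 K) := fun r hr hrp h =>
      adj_of_ch ⟨χ₁, i1, by rw [i3, e1]⟩ hp hr (Ne.symm hrp) (by rw [hp2]; norm_num) h
    rcases hr.dvd_mul.1 h7 with h8 | h8
    · have h9 := (Nat.prime_dvd_prime_iff_eq hr Nat.prime_two).1 (hr.dvd_of_dvd_pow h8)
      exact hg r hr hrp (by rw [h9]; norm_num)
    · rcases hr.dvd_mul.1 h8 with h9 | h9
      · exact hf r hr hrp (h9.trans (by norm_num))
      · rcases hr.dvd_mul.1 h9 with h10 | h10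
        · exact hg r hr hrp (h10.trans (by norm_num))
        · exact hf r hr hrp (h10.trans (by norm_num))
  rcases bc_split hm3 hq hr hprod with h4 | ⟨h4, -, h6, h7⟩
  · have hb := (sp_pair K hm3 (fun h => by
        by_contra h5
        exact h3 ⟨by omega, h⟩) (fun h => by
        by_contra h5
        exact h3' ⟨by omega, h⟩)).2
    obtain ⟨e, he⟩ := bc_key hm3 hq (psp_dvd K (p := p) (k := m - 1) (n := 1) (by omega))
    exact adj_of_ch hb hp hr (Ne.symm hrp) (Dvd.dvd.mul_left hpq _)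
      (Dvd.dvd.mul_right (rm_p (p := p) hr hrp h4 he) _)
  · by_cases h8 : Nat.card K = 2
    · have hm5 : 5 ≤ m := by
        by_contra h9
        have h10 : m = 4 := by omega
        subst h10
        rw [h8] at h6
        have h11 : r ∣ 7 := by norm_num at h6; exact h6
        exact h82 rfl h8 ((Nat.prime_dvd_prime_iff_eq hr (by norm_num)).1 h11)
      exact pr_sp_even K hm5 h8 hr hrp h6
    · obtain ⟨χ₁, χ₂, f, g, i1, h88⟩ := H677.SpRank.exists_chars (F := K) (m := m) hm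
      revert h88; rintro ⟨i2, i3, i4, i5, i6⟩
      refine adj_of_ch ⟨χ₂, i2, i4⟩ hp hr (Ne.symm hrp)
        (p_dvd_rk hp hpq (four_dvd K h8) (i6.trans (mul_assoc _ _ _))) ?_
      have h9 : ((Nat.card K ^ (m - 1) - 1 : ℕ) : ℤ) = (Nat.card K : ℤ) ^ (m - 1) - 1 := by
        rw [Nat.cast_sub (Nat.one_le_pow _ _ (by omega))]; push_cast; ring
      refine r_dvd_rk hr h7 (by omega) (X := (Nat.card K : ℤ) ^ (m - 1) - 1)
        (Y := (Nat.card K : ℤ) * ((Nat.card K : ℤ) ^ m + 1)) (by rw [i6]; ring) ?_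
      rw [← h9]
      exact_mod_cast h6

end Cfsg.Agent.H722.HC
end

-- part: H722/HC/PrMinus
section
/-!
# `Ω⁻_{2l+2}(q)`: the characteristic `p` is adjacent to every prime divisor of the order (helper722, for S4984)
-/

set_option autoImplicit false

open scoped ComplexConjugate
open Cfsg

namespace Cfsg.Agent.H722.HC

open Cfsg.Agent.Characters Module Cfsg.Agent.H53.HC Cfsg.Agent.H477.HC Cfsg.Agent.H749.Two Cfsg.Agent.H671.H5

universe u v w

/-- `p` divides the rank 3 degrees -/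
theorem p_dvd_sq {p q : ℕ} (hpq : p ∣ q) {f : ℕ} {X : ℤ} (h : ((q : ℤ) ^ 2 - 1) * f = q * X) : p ∣ f := by
  have h1 : (f : ℤ) = q * (q * f - X) := by linear_combination -h
  have h2 : (q : ℤ) ∣ (f : ℤ) := ⟨_, h1⟩
  exact hpq.trans (by exact_mod_cast h2)

theorem r_dvd_sq {r q : ℕ} (hr : r.Prime) (hr2 : ¬ r ∣ q ^ 2 - 1) (hq : 2 ≤ q) {f : ℕ} {X Y : ℤ}
    (h : ((q : ℤ) ^ 2 - 1) * f = X * Y) (hX : (r : ℤ) ∣ X) : r ∣ f := by
  have h1 : (r : ℤ) ∣ (((q ^ 2 - 1) * f : ℕ) : ℤ) := by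
    rw [Nat.cast_mul, cast_pow_sub q 2 hq, h]
    exact Dvd.dvd.mul_right hX _
  exact (hr.dvd_mul.1 (by exact_mod_cast h1)).resolve_left hr2

/-- `p` divides the degree after the descent -/
theorem p_down {p q D e i t s : ℕ} (hp : p.Prime) (hs : q = p ^ s) (hq : 2 ≤ q) (h : D * q ^ 2 = e * 2 ^ i) (hi : i ≤ t)
    (ht : (Odd (q ^ 2) ∧ 1 < q ^ 2) ∨ 2 ^ t < q ^ 2) : p ∣ e := by
  have hs0 : 0 < s := by
    rcases Nat.eq_zero_or_pos s with rfl | h0
    · rw [pow_zero] at hs; omega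
    · exact h0
  by_cases hp2 : p = 2
  · subst hp2
    have h1 : 2 ^ t < q ^ 2 := by
      rcases ht with ⟨h1, -⟩ | h1
      · exfalso
        have h2 : Even (q ^ 2) := by
          rw [hs]
          exact ((even_two.pow_of_ne_zero hs0.ne')).pow_of_ne_zero two_ne_zero
        exact (Nat.not_odd_iff_even.2 h2) h1
      · exact h1
    rw [hs, ← pow_mul] at h1 h
    have h2 := (Nat.pow_lt_pow_iff_right (show 1 < 2 by norm_num)).1 h1
    refine dvd_down Nat.prime_two h hi (fun _ => ?_) ?_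
    · exact Dvd.dvd.mul_left (pow_dvd_pow 2 (by omega)) _
    · exact Dvd.dvd.mul_left (dvd_pow_self 2 (by omega)) _
  · refine dvd_down hp h hi (fun h => absurd h hp2) (Dvd.dvd.mul_left ?_ _)
    rw [hs]
    exact dvd_pow (dvd_pow_self p hs0.ne') two_ne_zero

section

variable (K : Type u) [Field K] [Finite K] {p : ℕ} [Fact p.Prime] [CharP K p] (a b : K)
  (hab : ∀ z₁ z₂ : K, z₁ ^ 2 + a * z₁ * z₂ + b * z₂ ^ 2 = 0 → z₁ = 0 ∧ z₂ = 0)

include p hab in
/-- the character of degree `dg F 1 * q²(q²+1)` of `PΩ⁻_8(q)`, `q ≥ 4` -/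
theorem minus_pt (hq4 : 4 ≤ Nat.card K) : ∃ t e i, ((Odd (Nat.card K ^ 2) ∧ 1 < Nat.card K ^ 2) ∨ 2 ^ t < Nat.card K ^ 2) ∧
    Ch (POmega K (quadFormMinus 3 K a b)) e ∧
    dg (CForm.minusF K (1 + 2) a b hab) 1 * (Nat.card K ^ 2 * (Nat.card K ^ 2 + 1)) = e * 2 ^ i ∧ i ≤ t := by
  obtain ⟨t, ht, hidx, hN⟩ := minus_t K a b hab (l := 3) le_rfl
  obtain ⟨W₀, hW₀, hcmp⟩ := minusF_cmp (K := K) hab 1 2
  obtain ⟨c, hc⟩ := exists_cus_one (K := K) rfl 1 (by norm_num) (by rw [pow_one]; omega) (by rintro ⟨h3, -⟩; omega)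
  obtain ⟨ψ, -, θ, -, s, -, hψ, -, hψ1, -, hs, -, hθ, -, hsum, -, -⟩ := chars_minus K a b hab (l := 2) le_rfl
  obtain ⟨χ, hχ, hχ1, -⟩ := CForm.exists_hc_pt hcmp one_pos hc hW₀ hψ hθ hsum
  have e1 : s = Nat.card K ^ 2 * (Nat.card K ^ 2 + 1) := by
    have h1 : ((Nat.card K : ℤ) ^ 2 - 1) ≠ 0 := by
      have : (4 : ℤ) ≤ Nat.card K := by exact_mod_cast hq4
      nlinarith only [hq4]
    have h2 : (s : ℤ) = ((Nat.card K ^ 2 * (Nat.card K ^ 2 + 1) : ℕ) : ℤ) := by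
      apply mul_left_cancel₀ h1
      push_cast
      rw [hs]
      ring
    exact_mod_cast h2
  have hχ1' : χ 1 = ((dg (CForm.minusF K (1 + 2) a b hab) 1 * (Nat.card K ^ 2 * (Nat.card K ^ 2 + 1)) : ℕ) : ℂ) := by
    rw [hχ1, hψ1, e1]
    push_cast
    ring
  obtain ⟨e, i, h3, h4, h5, h6⟩ := minus_down3 K (p := p) a b hab hidx hχ hχ1'
  exact ⟨t, e, i, hN, h3, h4, h5⟩

include p hab in
/-- **(p, r) for `PΩ⁻_{2l+2}(q)`**, apart from `(Ω⁻_8(2), 5)`, `(Ω⁻_8(3), 5)` -/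
theorem pr_minus {l : ℕ} (hl : 3 ≤ l) {r : ℕ} (hr : r.Prime) (hrp : r ≠ p)
    (hd : r ∣ Nat.card (POmega K (quadFormMinus l K a b)))
    (hex : l = 3 → Nat.card K ≤ 3 → r ≠ 5) : Adj p r (POmega K (quadFormMinus l K a b)) := by
  have hp : p.Prime := Fact.out
  have hq2 : 2 ≤ Nat.card K := Finite.one_lt_card
  have hpq := char_dvd K (p := p)
  obtain ⟨s, hs⟩ := card_pow K p
  have hMG := minus_prod K a b hab hr hrp hd
  -- the pair
  have hpair : ∀ (hl2 : Nat.card K = 2 → 4 ≤ l) (M : ℕ)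
      (_ : ∃ x, M ∣ p ^ x * dg (CForm.minusF K (l - 1 + 1) a b hab) (l - 1)) (_ : Odd (Nat.card K) → 2 ^ 4 ∣ M),
      r ∣ M → Adj p r (POmega K (quadFormMinus l K a b)) := by
    intro hl2 M hM hM2 hrM
    obtain ⟨x', hx'⟩ := hM
    obtain ⟨t', e', i', e'', i'', h88⟩ := minus_pair K (p := p) a b hab hl hl2
    revert h88; rintro ⟨h5, h6, h7, h8, h9, h88⟩
    revert h88; rintro ⟨h10, h11, h12, h13⟩
    have h14 := rm_p (p := p) hr hrp hrM hx'
    have h15 : r = 2 → 2 ^ (t' + 1) ∣ dg (CForm.minusF K (l - 1 + 1) a b hab) (l - 1) := fun hr2 =>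
      (pow_dvd_pow 2 (by omega)).trans (prime_pow_dvd (t := 4) Nat.prime_two hp (by rw [← hr2]; exact hrp)
        ((hM2 (two_cases K hrp hr2)).trans hx'))
    exact adj_of_ch h8 hp hr (Ne.symm hrp) (p_down hp hs hq2 h10 h12 h6)
      (dvd_down hr h10 h12 (fun h => Dvd.dvd.mul_right (h15 h) _) (Dvd.dvd.mul_right h14 _))
  rcases Nat.lt_or_ge l 4 with hl4 | hl4
  · have hl3 : l = 3 := by omega
    subst hl3
    rcases Nat.lt_or_ge (Nat.card K) 3 with hq3 | hq3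
    · -- `Ω⁻_8(2)`
      have hq : Nat.card K = 2 := by omega
      obtain ⟨f, g, hf, hg, hf', hg'⟩ := rk3_minus K a b hab (l := 3) le_rfl
      have hp2 : p = 2 := by
        rw [hq] at hpq
        exact (Nat.prime_dvd_prime_iff_eq hp Nat.prime_two).1 hpq
      rw [hq] at hf' hg' hMG
      norm_num at hf' hg'
      have e1 : f = 84 := by omega
      have e2 : g = 34 := by omega
      have hMG' : MG 2 3 = 3 ^ 4 * 5 * 7 * 17 := by rfl
      rw [hMG'] at hMG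
      have h6 : r ∣ 3 ^ 4 ∨ r ∣ 7 ∨ r ∣ 17 := by
        rcases hr.dvd_mul.1 hMG with h8 | h8
        · rcases hr.dvd_mul.1 h8 with h9 | h9
          · rcases hr.dvd_mul.1 h9 with h10 | h10
            · exact Or.inl h10
            · exact absurd ((Nat.prime_dvd_prime_iff_eq hr (by norm_num)).1 h10) (hex rfl (by omega))
          · exact Or.inr (Or.inl h9)
        · exact Or.inr (Or.inr h8)
      rcases h6 with h6 | h6 | h6
      · have hr3 : r = 3 := (Nat.prime_dvd_prime_iff_eq hr Nat.prime_three).1 (hr.dvd_of_dvd_pow h6)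
        exact adj_of_ch hf hp hr (Ne.symm hrp) (by rw [hp2, e1]; norm_num) (by rw [hr3, e1]; norm_num)
      · exact adj_of_ch hf hp hr (Ne.symm hrp) (by rw [hp2, e1]; norm_num) (h6.trans (by rw [e1]; norm_num))
      · exact adj_of_ch hg hp hr (Ne.symm hrp) (by rw [hp2, e2]; norm_num) (h6.trans (by rw [e2]; norm_num))
    by_cases h4 : r ∣ (Nat.card K ^ 4 + 1) * (Nat.card K ^ 6 - 1)
    · exact hpair (fun h => by omega) _
        (td_key_three hq2 (minus_dvd K (p := p) a b hab (k := 2) (n := 1) (by omega))) (fun ho => two_M3 ho) h4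
    · have h5 : r ∣ Nat.card K ^ 2 + 1 := (td_three hr hMG).resolve_left h4
      have hr2 : r ≠ 2 := by
        intro hr2
        have ho := two_cases K hrp hr2
        exact h4 (Dvd.dvd.mul_right (by rw [hr2]; exact (ho.pow (n := 4)).add_one.two_dvd) _)
      have hq4 : 4 ≤ Nat.card K := by
        by_contra h6
        have hq : Nat.card K = 3 := by omega
        rw [hq] at h5
        have h6 : r ∣ 2 * 5 := by norm_num at h5; exact h5
        rcases hr.dvd_mul.1 h6 with h7 | h7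
        · exact hr2 ((Nat.prime_dvd_prime_iff_eq hr Nat.prime_two).1 h7)
        · exact hex rfl (by omega) ((Nat.prime_dvd_prime_iff_eq hr (by norm_num)).1 h7)
      obtain ⟨t', e', i', h6, h7, h8, h9⟩ := minus_pt K (p := p) a b hab hq4
      refine adj_of_ch h7 hp hr (Ne.symm hrp) (p_down (D := dg (CForm.minusF K (1 + 2) a b hab) 1 *
        (Nat.card K ^ 2 + 1)) hp hs hq2 (by rw [← h8]; ring) h9 h6)
        (dvd_down hr h8 h9 (fun h => absurd h hr2) (Dvd.dvd.mul_left (Dvd.dvd.mul_left h5 _) _))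
  · rcases td_split hl4 hr hMG with h4 | ⟨-, h5, h6⟩
    · exact hpair (fun _ => hl4) _
        (td_key' hl4 hq2 (minus_dvd K (p := p) a b hab (k := l - 1) (n := 1) (by omega))) (fun ho => two_M2 ho) h4
    · obtain ⟨f, g, -, hg, -, hg'⟩ := rk3_minus K a b hab hl
      refine adj_of_ch hg hp hr (Ne.symm hrp) (p_dvd_sq hpq (hg'.trans (mul_assoc _ _ _))) ?_
      refine r_dvd_sq hr h6 hq2 (X := (Nat.card K : ℤ) ^ (l - 1) - 1)
        (Y := (Nat.card K : ℤ) * ((Nat.card K : ℤ) ^ (l + 1) + 1)) (by rw [hg']; ring) ?_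
      rw [← cast_pow_sub _ (l - 1) hq2]
      exact_mod_cast h5

end

end Cfsg.Agent.H722.HC
end

-- part: H722/HC/PrPlus
section
/-!
# `Ω⁺_{2m}(q)`: the characteristic `p` is adjacent to every prime divisor of the order (helper722, for S4984)
-/

set_option autoImplicit false

open scoped ComplexConjugate
open Cfsg

namespace Cfsg.Agent.H722.HC

open Cfsg.Agent.Characters Module Cfsg.Agent.H53.HC Cfsg.Agent.H477.HC Cfsg.Agent.H749.Two Cfsg.Agent.H671.H5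

universe u v w

section arith

variable {q m r : ℕ}

/-- the product for `k = m - 2`, `n = 2` -/
def D3 (q m : ℕ) : ℕ := (q ^ m - 1) * (q ^ 2 + 1) * (q ^ (m - 2) + 1) * (q ^ (2 * (m - 1)) - 1) *
  ∏ i ∈ Finset.Ico 2 (m - 3), (q ^ (2 * (i + 1)) - 1)

theorem d3_key (hm : 5 ≤ m) (hq : 2 ≤ q) {p d : ℕ}
    (h : ∃ e, (q ^ (m - 2 + 2) - 1) * (q ^ 2 + 1) * ∏ i ∈ Finset.Ico 2 (m - 2 + 2 - 1), (q ^ (2 * (i + 1)) - 1) ∣
      p ^ e * (d * (q ^ (m - 2) - 1))) : ∃ e, D3 q m ∣ p ^ e * d := by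
  obtain ⟨e, he⟩ := h
  refine ⟨e, ?_⟩
  have h1 : (q ^ (m - 2 + 2) - 1) * (q ^ 2 + 1) * ∏ i ∈ Finset.Ico 2 (m - 2 + 2 - 1), (q ^ (2 * (i + 1)) - 1) =
      D3 q m * (q ^ (m - 2) - 1) := by
    obtain ⟨j, rfl⟩ : ∃ j, m = j + 5 := ⟨m - 5, by omega⟩
    have e1 : j + 5 - 2 + 2 - 1 = j + 2 + 1 + 1 := by omega
    have e2 : j + 5 - 3 = j + 2 := by omega
    have e3 : j + 5 - 2 + 2 = j + 5 := by omega
    have e4 : j + 5 - 2 = j + 3 := by omega
    have e5 : 2 * (j + 5 - 1) = 2 * (j + 2 + 1 + 1) := by (clear * -; omega)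
    rw [D3, e1, e2, e3, e4, e5, Finset.prod_Ico_succ_top (by omega), Finset.prod_Ico_succ_top (by omega)]
    have e6 : q ^ (2 * (j + 2 + 1)) - 1 = (q ^ (j + 3) + 1) * (q ^ (j + 3) - 1) := sq_sub q _
    rw [e6]
    ring
  rw [h1, ← mul_assoc] at he
  have h2 : 1 < q ^ (m - 2) := Nat.one_lt_pow (by omega) (by omega)
  exact Nat.dvd_of_mul_dvd_mul_right (by omega) he

theorem d3_split (hm : 5 ≤ m) (hr : r.Prime) (h : r ∣ (q ^ m - 1) * D1 q m) :
    r ∣ D3 q m ∨ (Odd m ∧ r ∣ q ^ (m - 2) - 1 ∧ ¬ r ∣ q ^ 2 - 1) := by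
  by_cases h0 : r ∣ D3 q m
  · exact Or.inl h0
  right
  have hA : ¬ r ∣ q ^ m - 1 := fun h =>
    h0 (Dvd.dvd.mul_right (Dvd.dvd.mul_right (Dvd.dvd.mul_right (Dvd.dvd.mul_right h _) _) _) _)
  have hB : ¬ r ∣ q ^ 2 + 1 := fun h =>
    h0 (Dvd.dvd.mul_right (Dvd.dvd.mul_right (Dvd.dvd.mul_right (Dvd.dvd.mul_left h _) _) _) _)
  have hC : ¬ r ∣ q ^ (m - 2) + 1 := fun h =>
    h0 (Dvd.dvd.mul_right (Dvd.dvd.mul_right (Dvd.dvd.mul_left h _) _) _)
  have hD : ¬ r ∣ q ^ (2 * (m - 1)) - 1 := fun h => h0 (Dvd.dvd.mul_right (Dvd.dvd.mul_left h _) _)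
  have hE : ¬ r ∣ q ^ 2 - 1 := fun h => hD (h.trans (pow_sub_one_dvd q ⟨m - 1, rfl⟩))
  have hF : ¬ r ∣ q ^ 4 - 1 := fun h => by
    have h4 : q ^ (2 * 2) - 1 = (q ^ 2 + 1) * (q ^ 2 - 1) := sq_sub q 2
    rw [show (4 : ℕ) = 2 * 2 by norm_num, h4] at h
    exact (hr.dvd_mul.1 h).elim hB hE
  have hmid : ∀ i, i < m - 3 → r ∣ q ^ (2 * (i + 1)) - 1 → False := by
    intro i hi h2
    rcases Nat.lt_or_ge i 2 with h3 | h3
    · interval_cases i
      · exact hE h2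
      · exact hF h2
    · exact h0 (Dvd.dvd.mul_left (dvd_prod_idx (Finset.mem_Ico.2 ⟨h3, hi⟩) h2) _)
  obtain ⟨i, hi, h2⟩ := exists_idx hr ((hr.dvd_mul.1 h).resolve_left hA)
  rw [Finset.mem_range] at hi
  have h3 : ¬ i < m - 3 := fun h3 => hmid i h3 h2
  have h4 : i + 1 ≠ m - 1 := by
    intro h4
    rw [h4] at h2
    exact hD h2
  have h5 : i + 1 = m - 2 := by omega
  rw [h5, sq_sub] at h2
  have h6 : r ∣ q ^ (m - 2) - 1 := (hr.dvd_mul.1 h2).resolve_left hC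
  refine ⟨?_, h6, hE⟩
  by_contra ho
  rw [Nat.not_odd_iff_even] at ho
  obtain ⟨j, hj⟩ := ho
  refine hmid (j - 2) (by omega) ?_
  have h7 : 2 * (j - 2 + 1) = m - 2 := by omega
  rwa [h7]

theorem two_D3 (hq : Odd q) (_hm : 5 ≤ m) : 2 ^ 4 ∣ D3 q m := by
  have h1 : 2 ∣ q ^ 2 + 1 := (hq.pow (n := 2)).add_one.two_dvd
  have h2 : 2 ^ 3 ∣ q ^ (2 * (m - 1)) - 1 := (two_pow_sq hq).trans (pow_sub_one_dvd q ⟨m - 1, rfl⟩)
  unfold D3
  refine Dvd.dvd.mul_right ?_ _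
  have e : (q ^ m - 1) * (q ^ 2 + 1) * (q ^ (m - 2) + 1) * (q ^ (2 * (m - 1)) - 1) =
      ((q ^ 2 + 1) * (q ^ (2 * (m - 1)) - 1)) * ((q ^ m - 1) * (q ^ (m - 2) + 1)) := by ring
  rw [e, show (2 : ℕ) ^ 4 = 2 * 2 ^ 3 by norm_num]
  exact Dvd.dvd.mul_right (Nat.mul_dvd_mul h1 h2) _

/-- `r` divides `q - 1` if it divides `q^(j+1) - 1` and `q^j - 1` -/
theorem dvd_sub_one {j : ℕ} (hq : 2 ≤ q) (h1 : r ∣ q ^ (j + 1) - 1) (h2 : r ∣ q ^ j - 1) : r ∣ q - 1 := by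
  have h3 : 1 ≤ q ^ j := Nat.one_le_pow _ _ (by omega)
  obtain ⟨t, ht⟩ : ∃ t, q ^ j = t + 1 := ⟨q ^ j - 1, by omega⟩
  have h4 : q ^ (j + 1) - 1 = q * (q ^ j - 1) + (q - 1) := by
    rw [pow_succ, ht, Nat.add_sub_cancel]
    have : (t + 1) * q = q * t + q := by ring
    omega
  rw [h4] at h1
  exact (Nat.dvd_add_right (Dvd.dvd.mul_left h2 q)).1 h1

end arith

section

variable (K : Type u) [Field K] [Finite K]

/-- index and centre of `Ω⁺` -/
theorem plus_idx_mul {m : ℕ} (hm : 4 ≤ m) :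
    (Omega K (quadFormPlus m K)).index * Nat.card (Subgroup.center (Omega K (quadFormPlus m K))) =
      2 * Nat.gcd 4 (Nat.card K ^ m - 1) := by
  let _ := Fintype.ofFinite K
  exact idx_eq (quadFormPlus m K) (g := Nat.gcd 4 (Nat.card K ^ m - 1))
    (X := Nat.card K ^ (m * (m - 1)) * (Nat.card K ^ m - 1) *
      ∏ i ∈ Finset.range (m - 1), (Nat.card K ^ (2 * (i + 1)) - 1)) (by
      rw [Nat.card_eq_fintype_card (α := K)]
      rw [Cfsg.Agent.S0287.result rfl m (by omega)]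
      ring) (by
      rw [Nat.card_eq_fintype_card (α := K)]
      exact Cfsg.Agent.S0293.result rfl m hm)

theorem plus_idx_four {p : ℕ} [Fact p.Prime] [CharP K p] (ho : Odd (Nat.card K)) {m : ℕ} (hm : 2 ≤ m) :
    (Omega K (quadFormPlus m K)).index = 4 := by
  have h2 := two_ne_zero_of_odd (K := K) (p := p) ho
  rw [← LieClassical.OrthForms.coe_plusForm m K]
  refine Cfsg.Agent.ClassicalGeometry.OmegaIndex.index_Omega h2 ?_ _
    (LieClassical.OmegaReindex.nondegenerate_of_left _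
      (fun x hx => LieClassical.OrthForms.nondeg_plusForm m K x hx))
  simp only [Fintype.card_sum, Fintype.card_fin]; omega

/-- the index of `Ω⁺` -/
theorem plus_t {m : ℕ} (hm : 4 ≤ m) : ∃ t, t ≤ 3 ∧ (Omega K (quadFormPlus m K)).index ∣ 2 ^ t ∧
    ((Odd (Nat.card K ^ 2) ∧ 1 < Nat.card K ^ 2) ∨ 2 ^ t < Nat.card K ^ 2) ∧ (Even (Nat.card K) → t ≤ 1) := by
  have hq : 2 ≤ Nat.card K := Finite.one_lt_card
  rcases Nat.even_or_odd (Nat.card K) with he | ho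
  · refine ⟨1, by norm_num, ?_, Or.inr (by nlinarith), fun _ => le_rfl⟩
    have h1 := plus_idx_mul K hm
    have h2 : Nat.gcd 4 (Nat.card K ^ m - 1) = 1 := by
      have h3 : Odd (Nat.card K ^ m - 1) := by
        have h4 : Even (Nat.card K ^ m) := he.pow_of_ne_zero (by omega)
        have h5 : 1 ≤ Nat.card K ^ m := Nat.one_le_pow _ _ (by omega)
        obtain ⟨x, hx⟩ := h4
        exact ⟨x - 1, by omega⟩
      exact Nat.Coprime.pow_left 2 h3.coprime_two_left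
    rw [h2] at h1
    rw [pow_one]
    exact Dvd.intro _ (h1.trans (mul_one 2))
  · exact ⟨3, le_rfl, plus_idx K hm, Or.inl ⟨ho.pow, by nlinarith only [hq]⟩,
      fun he => absurd ho (Nat.not_odd_iff_even.2 he)⟩

omit [Finite K] in
/-- the Witt index -/
theorem plus_witt (m : ℕ) (W : Submodule K (Fin m ⊕ Fin m → K)) (hW : (CForm.plusF K m).TS W) :
    finrank K W ≤ m := by
  have h1 := two_finrank_le hW
  rw [Module.finrank_fintype_fun_eq_card] at h1
  simp only [Fintype.card_sum, Fintype.card_fin] at h1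
  omega

/-- descent -/
theorem plus_dn {m t : ℕ} (hm : 4 ≤ m) (hidx : (Omega K (quadFormPlus m K)).index ∣ 2 ^ t)
    {χ : (CForm.plusF K m).iso → ℂ} (hχ : IsIrrCharacter _ χ) {d : ℕ} (h1 : χ 1 = d)
    (hz : ∀ (z : (CForm.plusF K m).iso) (c : Kˣ), c ^ 2 = 1 →
      (∀ v, (z : (Fin m ⊕ Fin m → K) ≃ₗ[K] (Fin m ⊕ Fin m → K)) v = (c : K) • v) → χ z = χ 1) :
    ∃ e i, Ch (POmega K (quadFormPlus m K)) e ∧ d = e * 2 ^ i ∧ i ≤ t ∧ 0 < e :=
  om_down (CForm.plusF K m) (plus_hB K m) hχ h1 hz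
    (fun z hz => scal_of (cen_plus K (by omega) z hz)) hidx

omit [Finite K] in
theorem plus_cen {m : ℕ} (hcen : Nat.card (Subgroup.center (Omega K (quadFormPlus m K))) = 1)
    (z : Omega K (quadFormPlus m K)) (hz : z ∈ Subgroup.center (Omega K (quadFormPlus m K))) : omMat z = 1 := by
  rw [Subgroup.eq_bot_of_card_eq _ hcen] at hz
  rw [Subgroup.mem_bot.1 hz]
  rfl

/-- descent, trivial centre -/
theorem plus_dn1 {m t : ℕ} (hcen : Nat.card (Subgroup.center (Omega K (quadFormPlus m K))) = 1)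
    (hidx : (Omega K (quadFormPlus m K)).index ∣ 2 ^ t)
    {χ : (CForm.plusF K m).iso → ℂ} (hχ : IsIrrCharacter _ χ) {d : ℕ} (h1 : χ 1 = d) :
    ∃ e i, Ch (POmega K (quadFormPlus m K)) e ∧ d = e * 2 ^ i ∧ i ≤ t ∧ 0 < e :=
  om_down (CForm.plusF K m) (plus_hB K m) hχ h1 (Z := fun a => a = 1) (fun z c hc hz => by
      congr 1
      apply Subtype.ext
      ext v : 1
      rw [hz, hc, Units.val_one, one_smul]
      rfl) (fun z hz => ⟨1, rfl, fun v => by
      have h3 : omMat z = 1 := plus_cen K hcen z hz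
      rw [show omMat z = 1 from h3]
      rw [Matrix.one_mulVec, Units.val_one, one_smul]⟩) hidx

/-- the second rank 3 character of `O⁺_4(q)` and of `O⁺_6(q)` -/
theorem plus_two : ∃ (ψ θ : (CForm.plusF K 2).iso → ℂ), IsIrrCharacter _ ψ ∧ ψ 1 = ((Nat.card K ^ 2 : ℕ) : ℂ) ∧
    IsCharacter _ θ ∧ (∀ g, ψ g + θ g = (Nat.card {y : (CForm.plusF K 2).Pt // g • y = y} : ℂ)) ∧
    ∀ (z : (CForm.plusF K 2).iso) (c : Kˣ),
      (∀ v, (z : (Fin 2 ⊕ Fin 2 → K) ≃ₗ[K] (Fin 2 ⊕ Fin 2 → K)) v = (c : K) • v) → ψ z = ψ 1 := by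
  obtain ⟨ψ', ψ, -, θ, -, b, -, h1, -, h2, -, h3, -, h4, -, h5, h6⟩ := chars_plus K (m := 2) le_rfl
  refine ⟨ψ, θ, h1, ?_, h4, h5, fun z c hz => (h6 z c hz).2⟩
  have hq : 2 ≤ Nat.card K := Finite.one_lt_card
  have h7 : ((Nat.card K : ℤ) ^ 2 - 1) ≠ 0 := by
    have : (2 : ℤ) ≤ Nat.card K := by exact_mod_cast hq
    nlinarith only [hq]
  have e1 : (b : ℤ) = ((Nat.card K ^ 2 : ℕ) : ℤ) := by
    apply mul_left_cancel₀ h7
    push_cast
    rw [h3]
    ring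
  have e2 : b = Nat.card K ^ 2 := by exact_mod_cast e1
  rw [h2, e2]

theorem plus_three : ∃ (ψ : (CForm.plusF K 3).iso → ℂ), IsIrrCharacter _ ψ ∧
    ψ 1 = ((Nat.card K ^ 2 * (Nat.card K ^ 2 + 1) : ℕ) : ℂ) ∧
    ∀ (z : (CForm.plusF K 3).iso) (c : Kˣ),
      (∀ v, (z : (Fin 3 ⊕ Fin 3 → K) ≃ₗ[K] (Fin 3 ⊕ Fin 3 → K)) v = (c : K) • v) → ψ z = ψ 1 := by
  obtain ⟨ψ', ψ, -, θ, -, b, -, h1, -, h2, -, h3, -, h4, -, h5, h6⟩ := chars_plus K (m := 3) (by norm_num)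
  refine ⟨ψ, h1, ?_, fun z c hz => (h6 z c hz).2⟩
  have hq : 2 ≤ Nat.card K := Finite.one_lt_card
  have h7 : ((Nat.card K : ℤ) ^ 2 - 1) ≠ 0 := by
    have : (2 : ℤ) ≤ Nat.card K := by exact_mod_cast hq
    nlinarith only [hq]
  have e1 : (b : ℤ) = ((Nat.card K ^ 2 * (Nat.card K ^ 2 + 1) : ℕ) : ℤ) := by
    apply mul_left_cancel₀ h7
    push_cast
    rw [h3]
    ring
  have e2 : b = Nat.card K ^ 2 * (Nat.card K ^ 2 + 1) := by exact_mod_cast e1
  rw [h2, e2]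

variable {p : ℕ} [Fact p.Prime] [CharP K p]

include p in
/-- `m = 4` -/
theorem pr_plus_four {r : ℕ} (hr : r.Prime) (hrp : r ≠ p) (hd : r ∣ Nat.card (POmega K (quadFormPlus 4 K))) :
    Adj p r (POmega K (quadFormPlus 4 K)) := by
  have hp : p.Prime := Fact.out
  have hq2 : 2 ≤ Nat.card K := Finite.one_lt_card
  have hpq := char_dvd K (p := p)
  obtain ⟨s, hs⟩ := card_pow K p
  have hpr := plus_prod K le_rfl hr hrp hd
  obtain ⟨f, g, hf, hg, hf', hg'⟩ := rk3_plus K (m := 4) le_rfl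
  have hpf := p_dvd_sq hpq (hf'.trans (mul_assoc _ _ _))
  have hpg := p_dvd_sq (X := (Nat.card K : ℤ) * ((Nat.card K : ℤ) ^ (2 * 4 - 2) - 1)) hpq (hg'.trans (by ring))
  have hz : ((Nat.card K : ℤ) ^ 2 - 1) ≠ 0 := by
    have : (2 : ℤ) ≤ Nat.card K := by exact_mod_cast hq2
    nlinarith only [hq2]
  have ef : f = Nat.card K * (Nat.card K ^ 2 + 1) ^ 2 := by
    have e1 : (f : ℤ) = ((Nat.card K * (Nat.card K ^ 2 + 1) ^ 2 : ℕ) : ℤ) := by
      apply mul_left_cancel₀ hz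
      push_cast
      rw [hf']
      ring
    exact_mod_cast e1
  have eg : g = Nat.card K ^ 2 * (Nat.card K ^ 4 + Nat.card K ^ 2 + 1) := by
    have e1 : (g : ℤ) = ((Nat.card K ^ 2 * (Nat.card K ^ 4 + Nat.card K ^ 2 + 1) : ℕ) : ℤ) := by
      apply mul_left_cancel₀ hz
      push_cast
      rw [hg']
      ring
    exact_mod_cast e1
  by_cases hr2 : r = 2
  · subst hr2
    refine adj_of_ch hf hp hr (Ne.symm hrp) hpf ?_
    rw [ef]
    exact Dvd.dvd.mul_left (dvd_pow ((two_cases K hrp rfl).pow (n := 2)).add_one.two_dvd two_ne_zero) _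
  by_cases h1 : r ∣ Nat.card K ^ 2 - 1
  · have h1' : 1 ≤ Nat.card K ^ 2 := Nat.one_le_pow _ _ (by omega)
    by_cases hr3 : r = 3
    · subst hr3
      refine adj_of_ch hg hp hr (Ne.symm hrp) hpg ?_
      rw [eg]
      refine Dvd.dvd.mul_left ?_ _
      obtain ⟨x, hx⟩ := h1
      have h2 : Nat.card K ^ 2 = 3 * x + 1 := by omega
      have h3 : Nat.card K ^ 4 + Nat.card K ^ 2 + 1 = 3 * (3 * x ^ 2 + 3 * x + 1) := by
        have h4 : Nat.card K ^ 4 = (Nat.card K ^ 2) ^ 2 := by ring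
        rw [h4, h2]; ring
      exact ⟨_, h3⟩
    · -- `q ≥ 4`
      have hr5 : 5 ≤ r := by
        have h2 := hr.two_le
        by_contra h3
        have h4 : r = 4 := by omega
        rw [h4] at hr
        exact absurd hr (by norm_num)
      have hq4 : 4 ≤ Nat.card K := by
        by_contra h2
        have h3 : Nat.card K = 2 ∨ Nat.card K = 3 := by omega
        rcases h3 with h3 | h3
        · rw [h3] at h1
          exact hr3 ((Nat.prime_dvd_prime_iff_eq hr Nat.prime_three).1 h1)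
        · rw [h3] at h1
          have h4 : r ∣ 2 ^ 3 := h1
          exact hr2 ((Nat.prime_dvd_prime_iff_eq hr Nat.prime_two).1 (hr.dvd_of_dvd_pow h4))
      obtain ⟨t, ht, hidx, hN, -⟩ := plus_t K (m := 4) le_rfl
      obtain ⟨c, hc⟩ := exists_cus_sq K rfl 2 (by norm_num) (fun h => by omega) (fun h => by omega) (fun _ => le_rfl)
      obtain ⟨W₀, hW₀, hcmp⟩ := plusF_cmp (K := K) 2 2
      obtain ⟨ψ, θ, hψ, hψ1, hθ, hsum, hψz⟩ := plus_two K
      obtain ⟨χ, hχ, hχ1, hχz⟩ := CForm.exists_hc_pt hcmp (by norm_num) hc hW₀ hψ hθ hsum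
      have hχ1' : χ 1 = ((dg (CForm.plusF K (2 + 2)) 2 * Nat.card K ^ 2 : ℕ) : ℂ) := by
        rw [hχ1, hψ1]
        push_cast
        ring
      obtain ⟨e, i, h3, h4, h5, h6⟩ := plus_dn K (m := 4) le_rfl hidx hχ hχ1' (fun z a ha hz =>
        hχz z a hz fun z' hz' => by rw [hc.scal a ha, hψz z' a hz'])
      refine adj_of_ch h3 hp hr (Ne.symm hrp) (p_down hp hs hq2 h4 h5 hN)
        (dvd_down hr h4 h5 (fun h => absurd h hr2) (Dvd.dvd.mul_right ?_ _))
      obtain ⟨x, hx⟩ := plus_dvd K (p := p) (k := 2) (n := 2) (by norm_num) (by norm_num)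
      have h7 : (Nat.card K ^ (2 + 2) - 1) * (Nat.card K ^ 2 + 1) *
          ∏ i ∈ Finset.Ico 2 (2 + 2 - 1), (Nat.card K ^ (2 * (i + 1)) - 1) =
          ((Nat.card K ^ 2 + 1) * (Nat.card K ^ 2 + 1) * (Nat.card K ^ 6 - 1)) * (Nat.card K ^ 2 - 1) := by
        rw [show 2 + 2 - 1 = 2 + 1 by norm_num, Finset.prod_Ico_succ_top le_rfl, Finset.Ico_self, Finset.prod_empty,
          show 2 + 2 = 2 * 2 by norm_num, sq_sub (Nat.card K) 2]
        ring
      rw [h7, ← mul_assoc] at hx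
      have h8 : 1 < Nat.card K ^ 2 := Nat.one_lt_pow (by omega) (by omega)
      have h9 := Nat.dvd_of_mul_dvd_mul_right (by omega) hx
      exact rm_p (p := p) hr hrp (Dvd.dvd.mul_left (h1.trans (pow_sub_one_dvd _ ⟨3, by norm_num⟩)) _) h9
  · have h2 : r ∣ Nat.card K ^ 2 + 1 ∨ r ∣ Nat.card K ^ 6 - 1 := by
      have h4 : Nat.card K ^ (2 * 2) - 1 = (Nat.card K ^ 2 + 1) * (Nat.card K ^ 2 - 1) := sq_sub _ 2
      have h5 : r ∣ Nat.card K ^ 4 - 1 → r ∣ Nat.card K ^ 2 + 1 := fun h => by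
        rw [show (4 : ℕ) = 2 * 2 by norm_num, h4] at h
        exact (hr.dvd_mul.1 h).resolve_right h1
      rcases hr.dvd_mul.1 hpr with h | h
      · exact Or.inl (h5 h)
      · obtain ⟨i, hi, h3⟩ := exists_idx hr h
        rw [Finset.mem_range] at hi
        interval_cases i
        · exact absurd h3 h1
        · exact Or.inl (h5 h3)
        · exact Or.inr h3
    rcases h2 with h2 | h2
    · refine adj_of_ch hf hp hr (Ne.symm hrp) hpf ?_
      rw [ef]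
      exact Dvd.dvd.mul_left (dvd_pow h2 two_ne_zero) _
    · refine adj_of_ch hg hp hr (Ne.symm hrp) hpg ?_
      refine r_dvd_sq hr h1 hq2 (X := (Nat.card K : ℤ) ^ 6 - 1) (Y := (Nat.card K : ℤ) ^ 2) (by rw [hg']; ring) ?_
      rw [← cast_pow_sub _ 6 hq2]
      exact_mod_cast h2

include p in
/-- **(p, r) for `PΩ⁺_{2m}(q)`**, apart from `(Ω⁺_10(2), 7)` -/
theorem pr_plus {m : ℕ} (hm : 4 ≤ m) {r : ℕ} (hr : r.Prime) (hrp : r ≠ p)
    (hd : r ∣ Nat.card (POmega K (quadFormPlus m K)))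
    (hex : m = 5 → Nat.card K = 2 → r ≠ 7) : Adj p r (POmega K (quadFormPlus m K)) := by
  have hp : p.Prime := Fact.out
  have hq2 : 2 ≤ Nat.card K := Finite.one_lt_card
  have hpq := char_dvd K (p := p)
  obtain ⟨s, hs⟩ := card_pow K p
  rcases Nat.lt_or_ge m 5 with hm5 | hm5
  · have hm4 : m = 4 := by omega
    subst hm4
    exact pr_plus_four K hr hrp hd
  obtain ⟨t, ht, hidx, hN, ht1⟩ := plus_t K hm
  rcases d3_split hm5 hr (plus_prod K hm hr hrp hd) with h1 | ⟨hmo, h1, h2⟩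
  · obtain ⟨k, rfl⟩ : ∃ k, m = k + 2 := ⟨m - 2, by omega⟩
    obtain ⟨c, hc⟩ := exists_cus_sq K rfl k (by omega) (fun h => by omega) (fun h => by omega) (fun h => by omega)
    obtain ⟨W₀, hW₀, hcmp⟩ := plusF_cmp (K := K) k 2
    obtain ⟨ψ, θ, hψ, hψ1, hθ, hsum, hψz⟩ := plus_two K
    obtain ⟨χ, hχ, hχ1, hχz⟩ := exists_prod hcmp hc hW₀ (m := k + 2) (plus_witt K _) (by omega) hψ hψ1
      (fun z a _ hz => hψz z a hz)
    obtain ⟨e, i, h3, h4, h5, h6⟩ := plus_dn K hm hidx hχ hχ1 hχz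
    have hk := d3_key hm5 hq2 (p := p) (d := dg (CForm.plusF K (k + 2)) k)
      (plus_dvd K (p := p) (k := k) (n := 2) (by omega) (by norm_num))
    obtain ⟨x, hx⟩ := hk
    exact adj_of_ch h3 hp hr (Ne.symm hrp) (p_down hp hs hq2 h4 h5 hN)
      (dvd_down hr h4 h5 (fun hr2 => Dvd.dvd.mul_right ((pow_dvd_pow 2 (by omega)).trans
        (prime_pow_dvd (t := 4) Nat.prime_two hp (by rw [← hr2]; exact hrp)
          ((two_D3 (two_cases K hrp hr2) hm5).trans hx))) _) (Dvd.dvd.mul_right (rm_p (p := p) hr hrp h1 hx) _))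
  · have hr2 : r ≠ 2 := by
      rintro rfl
      exact h2 (((dvd_pow_self 2 (by norm_num : 3 ≠ 0))).trans (two_pow_sq (two_cases K hrp rfl)))
    rcases Nat.lt_or_ge m 6 with hm6 | hm6
    · -- `m = 5`
      have hm5' : m = 5 := by omega
      subst hm5'
      have hq3 : 3 ≤ Nat.card K := by
        by_contra h3
        have hq : Nat.card K = 2 := by omega
        rw [hq] at h1
        exact hex rfl hq ((Nat.prime_dvd_prime_iff_eq hr (by norm_num)).1 h1)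
      obtain ⟨ψ, ψ', θ, -, a, -, hψ, -, hψ1, -, ha, -, hθ, -, hsum, -, hψz⟩ := chars_plus K (m := 3) (by norm_num)
      obtain ⟨W₀, hW₀, hcmp⟩ := plusF_cmp (K := K) 2 3
      have hra : r ∣ a := by
        refine r_dvd_sq hr h2 hq2 (X := (Nat.card K : ℤ) ^ 3 - 1)
          (Y := (Nat.card K : ℤ) * ((Nat.card K : ℤ) ^ (3 - 2) + 1)) (by rw [ha]; ring) ?_
        rw [← cast_pow_sub _ 3 hq2]
        exact_mod_cast h1
      have hqa : Nat.card K ∣ a := p_dvd_sq dvd_rfl (ha.trans (mul_assoc _ _ _))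
      obtain ⟨e, i, h3, h4, h5⟩ : ∃ e i, Ch (POmega K (quadFormPlus 5 K)) e ∧
          dg (CForm.plusF K (2 + 3)) 2 * a = e * 2 ^ i ∧ i ≤ t := by
        by_cases h3 : Nat.card K = 3
        · have ho : Odd (Nat.card K) := by rw [h3]; decide
          have h4 := plus_idx_mul K (m := 5) (by norm_num)
          rw [plus_idx_four K (p := p) ho (by norm_num), h3] at h4
          have h5 : Nat.card (Subgroup.center (Omega K (quadFormPlus 5 K))) = 1 := by
            have h6 : Nat.gcd 4 (3 ^ 5 - 1) = 2 := by decide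
            omega
          obtain ⟨c, hc⟩ := exists_cus_one (K := K) rfl 2 (by norm_num) (by nlinarith only [hq3]) (by rintro ⟨h3, -⟩; omega)
          obtain ⟨χ, hχ, hχ1, hχz⟩ := CForm.exists_hc_pt hcmp (by norm_num) hc hW₀ hψ hθ hsum
          obtain ⟨e, i, h6, h7, h8, -⟩ := plus_dn1 K (m := 5) h5 hidx hχ
            (d := dg (CForm.plusF K (2 + 3)) 2 * a) (by rw [hχ1, hψ1]; push_cast; ring)
          exact ⟨e, i, h6, h7, h8⟩
        · obtain ⟨c, hc⟩ := exists_cus_sq K rfl 2 (by norm_num) (fun h => by omega) (fun h => by omega)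
            (fun _ => le_rfl)
          obtain ⟨χ, hχ, hχ1, hχz⟩ := CForm.exists_hc_pt hcmp (by norm_num) hc hW₀ hψ hθ hsum
          obtain ⟨e, i, h6, h7, h8, -⟩ := plus_dn K (m := 5) hm hidx hχ
            (d := dg (CForm.plusF K (2 + 3)) 2 * a) (by rw [hχ1, hψ1]; push_cast; ring)
            (fun z a ha hz => hχz z a hz fun z' hz' => by rw [hc.scal a ha, (hψz z' a hz').1])
          exact ⟨e, i, h6, h7, h8⟩
      refine adj_of_ch h3 hp hr (Ne.symm hrp)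
        (dvd_down hp h4 h5 (fun hp2 => ?_) (Dvd.dvd.mul_left (hpq.trans hqa) _))
        (dvd_down hr h4 h5 (fun h => absurd h hr2) (Dvd.dvd.mul_left hra _))
      have he : Even (Nat.card K) := by
        rw [hp2] at hpq
        exact even_iff_two_dvd.2 hpq
      refine (pow_dvd_pow 2 (show t + 1 ≤ 2 by have := ht1 he; omega)).trans ?_
      exact Dvd.dvd.mul_left ((four_dvd K (by omega) hp2).trans hqa) _
    · -- `m ≥ 7`
      have hm7 : 7 ≤ m := by
        rcases hmo with ⟨j, hj⟩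
        omega
      obtain ⟨k, rfl⟩ : ∃ k, m = k + 3 := ⟨m - 3, by omega⟩
      obtain ⟨c, hc⟩ := exists_cus_sq K rfl k (by omega) (fun h => by omega) (fun h => by omega) (fun h => by omega)
      obtain ⟨W₀, hW₀, hcmp⟩ := plusF_cmp (K := K) k 3
      obtain ⟨ψ, hψ, hψ1, hψz⟩ := plus_three K
      obtain ⟨χ, hχ, hχ1, hχz⟩ := exists_prod hcmp hc hW₀ (m := k + 3) (plus_witt K _) (by omega) hψ hψ1
        (fun z a _ hz => hψz z a hz)
      obtain ⟨e, i, h3, h4, h5, h6⟩ := plus_dn K hm hidx hχ hχ1 hχz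
      obtain ⟨x, hx⟩ := plus_dvd K (p := p) (k := k) (n := 3) (by omega) (by norm_num)
      have e1 : k + 3 - 2 = k + 1 := by omega
      rw [e1] at h1
      have h7 : ¬ r ∣ Nat.card K ^ k - 1 := fun h7 => h2 ((dvd_sub_one hq2 h1 h7).trans (by
        have := pow_sub_one_dvd (Nat.card K) (i := 1) (j := 2) ⟨2, by norm_num⟩
        rwa [pow_one] at this))
      have h8 : r ∣ dg (CForm.plusF K (k + 3)) k * (Nat.card K ^ k - 1) := by
        refine rm_p (p := p) hr hrp ?_ hx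
        refine Dvd.dvd.mul_left (dvd_prod_idx (i := k) (Finset.mem_Ico.2 ⟨by omega, by omega⟩) ?_) _
        rw [sq_sub]
        exact Dvd.dvd.mul_left h1 _
      exact adj_of_ch h3 hp hr (Ne.symm hrp) (p_down (D := dg (CForm.plusF K (k + 3)) k * (Nat.card K ^ 2 + 1))
        hp hs hq2 (by rw [← h4]; ring) h5 hN)
        (dvd_down hr h4 h5 (fun h => absurd h hr2) (Dvd.dvd.mul_right ((hr.dvd_mul.1 h8).resolve_right h7) _))

end

end Cfsg.Agent.H722.HC
end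

private theorem dce_d39633c00e9c : _root_.True := by
  try have : _root_.True := by simp only [_root_.Cfsg.Agent.H722.HC.D3.eq_1]
  exact _root_.True.intro
end
end
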